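import Mathlib.RingTheory.Spectrum.Prime.FreeLocus
import Mathlib.RingTheory.Spectrum.Prime.Module
import Mathlib.RingTheory.LocalRing.Module
import Mathlib.RingTheory.Flat.Localization
import Mathlib.RingTheory.Flat.Stability
import Mathlib.RingTheory.Ideal.MinimalPrime.Basic
import Mathlib.Topology.LocallyConstant.Basic
import Mathlib.RingTheory.LocalProperties.Reduced
import Mathlib.Topology.Irreducible

/-! The dimension of the fibres of a module, semicontinuity and flatness from constancy. -/

set_option autoImplicit false
set_option linter.unusedSectionVars false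
set_option linter.style.haveILetI false

namespace Groth.Agent.H06FlatCx

open TensorProduct

universe u v

variable {A : Type u} [CommRing A] (M : Type v) [AddCommGroup M] [Module A M]

/-- The dimension of the fibre at a prime. -/
noncomputable def fibDim (x : PrimeSpectrum A) : ℕ :=
  Module.finrank x.asIdeal.ResidueField (x.asIdeal.ResidueField ⊗[A] M)

theorem fibDim_congr {N : Type v} [AddCommGroup N] [Module A N] (e : M ≃ₗ[A] N)
    (x : PrimeSpectrum A) : fibDim M x = fibDim N x :=
  (AlgebraTensorModule.congr (LinearEquiv.refl x.asIdeal.ResidueField _) e).finrank_eq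

theorem fibDim_eq_rankAtStalk [Module.Flat A M] [Module.Finite A M] (x : PrimeSpectrum A) :
    fibDim M x = Module.rankAtStalk (R := A) M x :=
  (Module.rankAtStalk_eq (M := M) x).symm

theorem fibDim_baseChange {B : Type u} [CommRing B] [Algebra A B] (x : PrimeSpectrum B) :
    fibDim (B ⊗[A] M) x = fibDim M (PrimeSpectrum.comap (algebraMap A B) x) := by
  let p : Ideal A := x.asIdeal.comap (algebraMap A B)
  let ψ : p.ResidueField →+* x.asIdeal.ResidueField :=
    Ideal.ResidueField.map p x.asIdeal (algebraMap A B) rfl
  letI : Algebra p.ResidueField x.asIdeal.ResidueField := ψ.toAlgebra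
  haveI : IsScalarTower A p.ResidueField x.asIdeal.ResidueField :=
    IsScalarTower.of_algebraMap_eq fun a => by
      change _ = Ideal.ResidueField.map p x.asIdeal (algebraMap A B) rfl (algebraMap A p.ResidueField a)
      rw [Ideal.ResidueField.map_algebraMap, ← IsScalarTower.algebraMap_apply]
  calc fibDim (B ⊗[A] M) x
      = Module.finrank x.asIdeal.ResidueField (x.asIdeal.ResidueField ⊗[A] M) :=
        (AlgebraTensorModule.cancelBaseChange A B x.asIdeal.ResidueField
          x.asIdeal.ResidueField M).finrank_eq
    _ = Module.finrank x.asIdeal.ResidueField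
          (x.asIdeal.ResidueField ⊗[p.ResidueField] (p.ResidueField ⊗[A] M)) :=
        (AlgebraTensorModule.cancelBaseChange A p.ResidueField x.asIdeal.ResidueField
          x.asIdeal.ResidueField M).symm.finrank_eq
    _ = Module.finrank p.ResidueField (p.ResidueField ⊗[A] M) := Module.finrank_baseChange
    _ = fibDim M (PrimeSpectrum.comap (algebraMap A B) x) := rfl

theorem exists_spanning_fibre [Module.Finite A M] (x : PrimeSpectrum A) :
    ∃ v : Fin (fibDim M x) → M, Submodule.span x.asIdeal.ResidueField
      (Set.range fun i => (1 : x.asIdeal.ResidueField) ⊗ₜ[A] v i) = ⊤ := by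
  obtain ⟨κ, a, ha, hsp, hli⟩ := exists_linearIndependent' x.asIdeal.ResidueField
    (fun m : M => (1 : x.asIdeal.ResidueField) ⊗ₜ[A] m)
  have htop : Submodule.span x.asIdeal.ResidueField
      (Set.range fun m : M => (1 : x.asIdeal.ResidueField) ⊗ₜ[A] m) = ⊤ :=
    Submodule.eq_top_iff'.2 fun w => by
      induction w using TensorProduct.induction_on with
      | zero => exact zero_mem _
      | tmul c m =>
        rw [show c ⊗ₜ[A] m = c • ((1 : x.asIdeal.ResidueField) ⊗ₜ[A] m) by
          rw [TensorProduct.smul_tmul', smul_eq_mul, mul_one]]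
        exact Submodule.smul_mem _ _ (Submodule.subset_span ⟨m, rfl⟩)
      | add p q hp hq => exact add_mem hp hq
  rw [htop] at hsp
  let b := Module.Basis.mk hli hsp.ge
  haveI : Finite κ := Module.Finite.finite_basis b
  have hc : Nat.card κ = fibDim M x := (Module.finrank_eq_nat_card_basis b).symm
  refine ⟨fun i => a ((Finite.equivFinOfCardEq hc).symm i), ?_⟩
  rw [← hsp]
  congr 1
  exact (Function.Surjective.range_comp (Equiv.surjective _)
    ((fun m : M => (1 : x.asIdeal.ResidueField) ⊗ₜ[A] m) ∘ a))

/-- The fibre dimension is upper semicontinuous. -/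
theorem isOpen_fibDim_le [Module.Finite A M] (r : ℕ) :
    IsOpen {x : PrimeSpectrum A | fibDim M x ≤ r} := by
  refine isOpen_iff_forall_mem_open.2 fun x hx => ?_
  obtain ⟨v, hv⟩ := exists_spanning_fibre M x
  let N : Submodule A M := Submodule.span A (Set.range v)
  refine ⟨(Module.support A (M ⧸ N))ᶜ, fun y hy => ?_, ?_, ?_⟩
  · refine le_trans ?_ (show fibDim M x ≤ r from hx)
    haveI : Subsingleton (y.asIdeal.ResidueField ⊗[A] (M ⧸ N)) := not_nontrivial_iff_subsingleton.1
      fun h => hy ((Module.mem_support_iff_nontrivial_residueField_tensorProduct y).2 h)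
    have htop : Submodule.span y.asIdeal.ResidueField
        (Set.range fun i => (1 : y.asIdeal.ResidueField) ⊗ₜ[A] v i) = ⊤ := by
      refine Submodule.eq_top_iff'.2 fun w => ?_
      obtain ⟨t, rfl⟩ := (lTensor_exact y.asIdeal.ResidueField (LinearMap.exact_subtype_mkQ N)
        (Submodule.mkQ_surjective N) w).1 (Subsingleton.elim _ _)
      induction t using TensorProduct.induction_on with
      | zero => simp
      | tmul c m =>
        obtain ⟨m, hm⟩ := m
        induction hm using Submodule.span_induction generalizing c with
        | mem m hm =>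
          obtain ⟨i, rfl⟩ := hm
          rw [LinearMap.lTensor_tmul, Submodule.subtype_apply,
            show c ⊗ₜ[A] v i = c • ((1 : y.asIdeal.ResidueField) ⊗ₜ[A] v i) by
              rw [TensorProduct.smul_tmul', smul_eq_mul, mul_one]]
          exact Submodule.smul_mem _ _ (Submodule.subset_span ⟨i, rfl⟩)
        | zero => simp
        | add p q hp hq ihp ihq =>
          have := add_mem (ihp c) (ihq c)
          simpa [TensorProduct.tmul_add] using this
        | smul s p hp ihp =>
          have := Submodule.smul_of_tower_mem _ s (ihp c)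
          simpa [TensorProduct.tmul_smul] using this
      | add p q hp hq => rw [map_add]; exact add_mem hp hq
    rw [fibDim, ← finrank_top, ← htop]
    exact (finrank_range_le_card _).trans_eq (Fintype.card_fin _)
  · exact (Module.isClosed_support (R := A) (M := M ⧸ N)).isOpen_compl
  · intro hmem
    haveI : Subsingleton (x.asIdeal.ResidueField ⊗[A] (M ⧸ N)) := by
      refine subsingleton_of_forall_eq 0 fun w => ?_
      obtain ⟨t, rfl⟩ := LinearMap.baseChange_surjective
        (A := x.asIdeal.ResidueField) (Submodule.mkQ_surjective N) w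
      have ht : t ∈ Submodule.span x.asIdeal.ResidueField
          (Set.range fun i => (1 : x.asIdeal.ResidueField) ⊗ₜ[A] v i) := hv ▸ Submodule.mem_top
      refine (Submodule.span_le.2 ?_ ht :
        t ∈ LinearMap.ker (N.mkQ.baseChange x.asIdeal.ResidueField))
      rintro _ ⟨i, rfl⟩
      rw [SetLike.mem_coe, LinearMap.mem_ker, LinearMap.baseChange_tmul, Submodule.mkQ_apply,
        (Submodule.Quotient.mk_eq_zero N).2 (Submodule.subset_span ⟨i, rfl⟩), tmul_zero]
    exact not_nontrivial (x.asIdeal.ResidueField ⊗[A] (M ⧸ N))
      ((Module.mem_support_iff_nontrivial_residueField_tensorProduct x).1 hmem)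

/-- Over a reduced local ring, constancy of the fibre dimension at the minimal primes gives
freeness. -/
theorem free_of_fibDim_eq [IsLocalRing A] [IsReduced A] [Module.Finite A M]
    (h : ∀ q : PrimeSpectrum A, q.asIdeal ∈ minimalPrimes A →
      fibDim M q = fibDim M (IsLocalRing.closedPoint A)) : Module.Free A M := by
  obtain ⟨v, hv⟩ := exists_spanning_fibre M (IsLocalRing.closedPoint A)
  let r := fibDim M (IsLocalRing.closedPoint A)
  let f : (Fin r → A) →ₗ[A] M := Fintype.linearCombination A v
  have hf : Function.Surjective f := by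
    rw [← LinearMap.range_eq_top, Fintype.range_linearCombination]
    by_contra hne
    let N : Submodule A M := Submodule.span A (Set.range v)
    haveI : Nontrivial (M ⧸ N) := Submodule.Quotient.nontrivial_iff.2 hne
    have hs : IsLocalRing.closedPoint A ∈ Module.support A (M ⧸ N) :=
      IsLocalRing.closedPoint_mem_support A (M ⧸ N)
    rw [Module.mem_support_iff_nontrivial_residueField_tensorProduct] at hs
    refine not_subsingleton ((IsLocalRing.closedPoint A).asIdeal.ResidueField ⊗[A] (M ⧸ N)) ?_
    refine subsingleton_of_forall_eq 0 fun w => ?_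
    obtain ⟨t, rfl⟩ := LinearMap.baseChange_surjective
      (A := (IsLocalRing.closedPoint A).asIdeal.ResidueField) (Submodule.mkQ_surjective N) w
    have ht : t ∈ Submodule.span (IsLocalRing.closedPoint A).asIdeal.ResidueField
        (Set.range fun i => (1 : (IsLocalRing.closedPoint A).asIdeal.ResidueField) ⊗ₜ[A] v i) :=
      hv ▸ Submodule.mem_top
    refine (Submodule.span_le.2 ?_ ht : t ∈ LinearMap.ker (N.mkQ.baseChange _))
    rintro _ ⟨i, rfl⟩
    rw [SetLike.mem_coe, LinearMap.mem_ker, LinearMap.baseChange_tmul, Submodule.mkQ_apply,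
      (Submodule.Quotient.mk_eq_zero N).2 (Submodule.subset_span ⟨i, rfl⟩), tmul_zero]
  refine Module.Free.of_equiv (LinearEquiv.ofBijective f ⟨?_, hf⟩)
  refine (injective_iff_map_eq_zero f).2 fun a ha => funext fun i => ?_
  have hmem : ∀ q : Ideal A, q ∈ minimalPrimes A → a i ∈ q := by
    intro q hq
    haveI : q.IsPrime := hq.1.1
    have e : fibDim M ⟨q, this⟩ = r := h ⟨q, this⟩ hq
    let F := f.baseChange q.ResidueField
    have hFs : Function.Surjective F := LinearMap.baseChange_surjective (A := q.ResidueField) hf
    have hFi : Function.Injective F :=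
      (LinearMap.injective_iff_surjective_of_finrank_eq_finrank (f := F) (by
        rw [Module.finrank_baseChange, Module.finrank_fin_fun]
        exact e.symm)).2 hFs
    have h0 : (1 : q.ResidueField) ⊗ₜ[A] a = 0 :=
      hFi (by rw [map_zero, LinearMap.baseChange_tmul, ha, tmul_zero])
    have h1 := congrArg ((LinearMap.proj i : (Fin r → A) →ₗ[A] A).baseChange q.ResidueField) h0
    rw [LinearMap.baseChange_tmul, map_zero] at h1
    have h2 := congrArg (TensorProduct.rid A q.ResidueField) h1
    rw [map_zero, TensorProduct.rid_tmul, LinearMap.proj_apply, Algebra.smul_def, mul_one] at h2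
    exact Ideal.algebraMap_residueField_eq_zero.1 h2
  have : a i ∈ nilradical A := by
    rw [nilradical, ← Ideal.sInf_minimalPrimes, Ideal.mem_sInf]
    exact fun {q} hq => hmem q hq
  rwa [nilradical_eq_zero, Submodule.zero_eq_bot, Submodule.mem_bot] at this

/-- Over a reduced ring, a module with locally constant fibre dimension is flat. -/
theorem flat_of_isLocallyConstant_fibDim [IsReduced A] [Module.Finite A M]
    (h : IsLocallyConstant (fibDim (A := A) M)) : Module.Flat A M := by
  refine Module.flat_of_localized_maximal M fun m hm => ?_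
  let Am := Localization.AtPrime m
  haveI : Module.Free Am (Am ⊗[A] M) := free_of_fibDim_eq (Am ⊗[A] M) fun q _ => by
    rw [fibDim_baseChange, fibDim_baseChange]
    exact h.apply_eq_of_isPreconnected isIrreducible_singleton.closure.2.isPreconnected
      (subset_closure rfl) ((PrimeSpectrum.le_iff_specializes _ _).1
        (Ideal.comap_mono (IsLocalRing.le_maximalIdeal q.isPrime.ne_top))).mem_closure
  haveI : Module.Flat A (Am ⊗[A] M) := Module.Flat.trans A Am _
  exact Module.Flat.of_linearEquiv
    ((LocalizedModule.equivTensorProduct m.primeCompl M).restrictScalars A)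

end Groth.Agent.H06FlatCx
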