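import Groth.Agent.H06FlatCx.Local
import Mathlib.Topology.Spectral.ConstructibleTopology
import Mathlib.RingTheory.Flat.TorsionFree

/-! Consequences used by the statements on complexes of flat modules. -/

set_option autoImplicit false
set_option linter.unusedSectionVars false
set_option linter.style.haveILetI false

namespace Groth.Agent.H06FlatCx

open CategoryTheory CategoryTheory.Limits MonoidalCategory
open scoped TensorProduct

universe u

variable {A : Type u} [CommRing A] (P : ChainComplex (ModuleCat.{u} A) ℤ)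

/-- Opcycles are the cokernel of the differential. -/
noncomputable def opcyclesEquiv {ι : Type} {c : ComplexShape ι}
    (K : HomologicalComplex (ModuleCat.{u} A) c) {i j : ι} (hij : c.prev j = i) :
    (K.X j ⧸ LinearMap.range (K.d i j).hom) ≃ₗ[A] K.opcycles j :=
  (Submodule.quotEquivOfEq _ _ ((ShortComplex.moduleCat_exact_iff_range_eq_ker
    (ShortComplex.mk (K.d i j) (K.pOpcycles j) (K.d_pOpcycles i j))).1
      (ShortComplex.exact_of_g_is_cokernel _ (K.opcyclesIsCokernel i j hij)))).trans
    ((K.pOpcycles j).hom.quotKerEquivOfSurjective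
      ((ModuleCat.epi_iff_surjective _).1 inferInstance))

theorem subsingleton_of_isZero {M : ModuleCat.{u} A} (h : IsZero M) : Subsingleton M :=
  ModuleCat.subsingleton_of_isZero h

theorem finite_h0 [IsNoetherianRing A] {ι : Type} {c : ComplexShape ι}
    (K : HomologicalComplex (ModuleCat.{u} A) c) (i j k : ι) [Module.Finite A (K.X j)] :
    Module.Finite A (H0 K i j k) := by
  haveI : IsNoetherian A (K.X j) := isNoetherian_of_isNoetherianRing_of_finite A (K.X j)
  infer_instance

theorem preservesMono_of_forall_subsingleton (p : ℤ)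
    (h : ∀ M : ModuleCat.{u} A, Subsingleton ((CohIII.TFun P p).obj M)) :
    (CohIII.TFun P p).PreservesMonomorphisms := by
  refine ⟨fun {M N} φ _ => ?_⟩
  haveI := h M
  exact (ModuleCat.mono_iff_injective _).2 fun a b _ => Subsingleton.elim a b

theorem preservesEpi_of_forall_subsingleton (p : ℤ)
    (h : ∀ M : ModuleCat.{u} A, Subsingleton ((CohIII.TFun P p).obj M)) :
    (CohIII.TFun P p).PreservesEpimorphisms := by
  refine ⟨fun {M N} φ _ => ?_⟩
  haveI := h N
  exact (ModuleCat.epi_iff_surjective _).2 fun a => ⟨0, Subsingleton.elim _ a⟩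

section Noetherian

variable [IsNoetherianRing A] (hP : ∀ i, Module.Finite A (P.X i) ∧ Module.Flat A (P.X i))
include hP

theorem finitePresentation_X (i : ℤ) : Module.FinitePresentation A (P.X i) := by
  haveI := (hP i).1
  exact Module.finitePresentation_of_finite A _

theorem epi_iff_surjective_chain [IsLocalRing A] (p : ℤ) :
    (CohIII.TFun P p).PreservesEpimorphisms ↔
      Function.Surjective ((CohIII.TFun P p).map
        (ModuleCat.ofHom (Algebra.linearMap A (IsLocalRing.ResidueField A)))).hom := by
  haveI := (hP p).1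
  haveI := (hP (p - 1)).2
  haveI := finitePresentation_X P hP (p - 1)
  exact epi_iff_surjective_residueField P (down_prev p) (down_next p)

theorem subsingleton_of_residueField_zero [IsLocalRing A] (p : ℤ)
    (hk : IsZero ((CohIII.TFun P p).obj (ModuleCat.of A (IsLocalRing.ResidueField A))))
    (M : ModuleCat.{u} A) : Subsingleton ((CohIII.TFun P p).obj M) := by
  haveI := (hP p).1
  haveI := (hP (p - 1)).2
  haveI := subsingleton_of_isZero hk
  have hE : (CohIII.TFun P p).PreservesEpimorphisms :=
    (epi_iff_surjective_chain P hP p).2 fun a => ⟨0, Subsingleton.elim _ a⟩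
  have hE' := (preservesEpi_iff_epiLift P (down_prev p) (down_next p)).1 hE
  haveI := finite_h0 P (p + 1) p (p - 1)
  haveI : Subsingleton (H0 P (p + 1) p (p - 1) ⊗[A] IsLocalRing.ResidueField A) :=
    (compMap_bijective_of_epi P (down_prev p) (down_next p) hE'
      (ModuleCat.of A (IsLocalRing.ResidueField A))).1.subsingleton
  haveI : Subsingleton (IsLocalRing.ResidueField A ⊗[A] H0 P (p + 1) p (p - 1)) :=
    (TensorProduct.comm A _ _).toEquiv.subsingleton
  haveI : Subsingleton (H0 P (p + 1) p (p - 1)) := IsLocalRing.subsingleton_tensorProduct.1 this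
  exact (compMap_bijective_of_epi P (down_prev p) (down_next p) hE' M).2.subsingleton

theorem exact_and_free_iff [IsLocalRing A] (p : ℤ) :
    ((CohIII.TFun P p).PreservesMonomorphisms ∧ (CohIII.TFun P p).PreservesEpimorphisms) ↔
      ((CohIII.TFun P p).PreservesEpimorphisms ∧
        Module.Free A ((CohIII.TFun P p).obj (ModuleCat.of A A))) := by
  haveI := (hP p).1
  haveI := (hP (p - 1)).2
  haveI := finite_h0 P (p + 1) p (p - 1)
  rw [and_comm]
  refine and_congr_right fun hE => ?_
  rw [flat_h0_iff_mono P (down_prev p) (down_next p) hE]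
  constructor
  · intro h
    haveI := Module.free_of_flat_of_isLocalRing (R := A) (P := H0 P (p + 1) p (p - 1))
    exact Module.Free.of_equiv (tSelfEquiv P (down_prev p) (down_next p))
  · intro h
    haveI := Module.Free.of_equiv (tSelfEquiv P (down_prev p) (down_next p)).symm
    infer_instance

theorem dRank_add_chain (p : ℤ) (x : PrimeSpectrum A) :
    CohIII.dRank P p x + fibDim (P.X (p - 1)) x =
      fibDim (Cok P p) x + fibDim (P.X (p - 1) ⧸ LinearMap.range (P.d p (p - 1)).hom) x := by
  haveI := (hP p).1
  haveI := (hP (p - 1)).1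
  exact dRank_add P (down_prev p) (down_next p) x

theorem dRank_usc (p : ℤ) : UpperSemicontinuous (CohIII.dRank P p) := by
  haveI := (hP p).1
  haveI := (hP (p - 1)).1
  haveI := (hP (p - 1)).2
  exact dRank_upperSemicontinuous P (down_prev p) (down_next p)

theorem fibDim_le_of_closedPoint [IsLocalRing A] {M : Type u} [AddCommGroup M] [Module A M]
    [Module.Finite A M] (x : PrimeSpectrum A) :
    fibDim M x ≤ fibDim M (IsLocalRing.closedPoint A) :=
  ((PrimeSpectrum.le_iff_specializes x (IsLocalRing.closedPoint A)).1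
    (IsLocalRing.le_maximalIdeal x.isPrime.ne_top)).mem_open
      (isOpen_fibDim_le M (fibDim M (IsLocalRing.closedPoint A))) (le_refl (fibDim M (IsLocalRing.closedPoint A)))

theorem cokFlat_of_dRank_eq [IsLocalRing A] [IsReduced A] (p : ℤ)
    (h : ∀ q : PrimeSpectrum A, q.asIdeal ∈ minimalPrimes A →
      CohIII.dRank P p q = CohIII.dRank P p (IsLocalRing.closedPoint A)) :
    Module.Flat A (Cok P p) ∧
      Module.Flat A (P.X (p - 1) ⧸ LinearMap.range (P.d p (p - 1)).hom) := by
  haveI := (hP p).1
  haveI := (hP (p - 1)).1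
  haveI := (hP (p - 1)).2
  haveI := Module.free_of_flat_of_isLocalRing (R := A) (P := P.X (p - 1))
  have key : ∀ q : PrimeSpectrum A, q.asIdeal ∈ minimalPrimes A →
      fibDim (Cok P p) q = fibDim (Cok P p) (IsLocalRing.closedPoint A) ∧
      fibDim (P.X (p - 1) ⧸ LinearMap.range (P.d p (p - 1)).hom) q =
        fibDim (P.X (p - 1) ⧸ LinearMap.range (P.d p (p - 1)).hom) (IsLocalRing.closedPoint A) := by
    intro q hq
    have a1 := dRank_add_chain P hP p q
    have a2 := dRank_add_chain P hP p (IsLocalRing.closedPoint A)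
    have b1 := fibDim_le_of_closedPoint P hP (M := Cok P p) q
    have b2 := fibDim_le_of_closedPoint P hP
      (M := P.X (p - 1) ⧸ LinearMap.range (P.d p (p - 1)).hom) q
    have c1 : fibDim (P.X (p - 1)) q = fibDim (P.X (p - 1)) (IsLocalRing.closedPoint A) := by
      rw [fibDim_eq_rankAtStalk, fibDim_eq_rankAtStalk]
      exact Module.rankAtStalk_eq_of_le_of_finite_of_flat _
        (IsLocalRing.le_maximalIdeal q.isPrime.ne_top)
    have := h q hq
    omega
  haveI := free_of_fibDim_eq (Cok P p) fun q hq => (key q hq).1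
  haveI := free_of_fibDim_eq (P.X (p - 1) ⧸ LinearMap.range (P.d p (p - 1)).hom)
    fun q hq => (key q hq).2
  exact ⟨inferInstance, inferInstance⟩

theorem fibDim_parts_locallyConstant (p : ℤ) (x : PrimeSpectrum A)
    (h : ∀ᶠ y in nhds x, CohIII.dRank P p y = CohIII.dRank P p x) :
    (∀ᶠ y in nhds x, fibDim (Cok P p) y = fibDim (Cok P p) x) ∧
      ∀ᶠ y in nhds x, fibDim (P.X (p - 1) ⧸ LinearMap.range (P.d p (p - 1)).hom) y =
        fibDim (P.X (p - 1) ⧸ LinearMap.range (P.d p (p - 1)).hom) x := by
  haveI := (hP p).1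
  haveI := (hP (p - 1)).1
  haveI := (hP (p - 1)).2
  have h0 := ((fibDim_X_isLocallyConstant P (k := p - 1)).isOpen_fiber
    (fibDim (P.X (p - 1)) x)).mem_nhds rfl
  have h1 := (isOpen_fibDim_le (Cok P p) (fibDim (Cok P p) x)).mem_nhds (le_refl (fibDim (Cok P p) x))
  have h2 := (isOpen_fibDim_le (P.X (p - 1) ⧸ LinearMap.range (P.d p (p - 1)).hom)
    (fibDim (P.X (p - 1) ⧸ LinearMap.range (P.d p (p - 1)).hom) x)).mem_nhds
      (le_refl (fibDim (P.X (p - 1) ⧸ LinearMap.range (P.d p (p - 1)).hom) x))
  rw [← Filter.eventually_and]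
  filter_upwards [h, h0, h1, h2] with y e e0 e1 e2
  change fibDim (P.X (p - 1)) y = fibDim (P.X (p - 1)) x at e0
  change fibDim _ y ≤ fibDim _ x at e1
  change fibDim _ y ≤ fibDim _ x at e2
  have a1 := dRank_add_chain P hP p x
  have a2 := dRank_add_chain P hP p y
  omega

theorem cokFlat_of_dRank_const [IsReduced A] (p : ℤ) (h : IsLocallyConstant (CohIII.dRank P p)) :
    Module.Flat A (Cok P p) ∧
      Module.Flat A (P.X (p - 1) ⧸ LinearMap.range (P.d p (p - 1)).hom) := by
  haveI := (hP p).1
  haveI := (hP (p - 1)).1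
  have key := fun x => fibDim_parts_locallyConstant P hP p x (h.eventually_eq x)
  exact ⟨flat_of_isLocallyConstant_fibDim _ ((IsLocallyConstant.iff_eventually_eq _).2 fun x => (key x).1),
    flat_of_isLocallyConstant_fibDim _ ((IsLocallyConstant.iff_eventually_eq _).2 fun x => (key x).2)⟩

theorem dRank_locallyConstant_of_flat (p : ℤ) (h1 : Module.Flat A (Cok P p))
    (h2 : Module.Flat A (P.X (p - 1) ⧸ LinearMap.range (P.d p (p - 1)).hom)) :
    IsLocallyConstant (CohIII.dRank P p) := by
  haveI := (hP p).1
  haveI := (hP (p - 1)).1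
  haveI := (hP (p - 1)).2
  haveI := Module.finitePresentation_of_finite A (Cok P p)
  haveI := Module.finitePresentation_of_finite A
    (P.X (p - 1) ⧸ LinearMap.range (P.d p (p - 1)).hom)
  refine (IsLocallyConstant.iff_eventually_eq _).2 fun x => ?_
  filter_upwards [(Module.isLocallyConstant_rankAtStalk (R := A) (M := Cok P p)).eventually_eq x,
    (Module.isLocallyConstant_rankAtStalk (R := A)
      (M := P.X (p - 1) ⧸ LinearMap.range (P.d p (p - 1)).hom)).eventually_eq x,
    (fibDim_X_isLocallyConstant P (k := p - 1)).eventually_eq x] with y e1 e2 e0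
  rw [← fibDim_eq_rankAtStalk, ← fibDim_eq_rankAtStalk] at e1 e2
  have a1 := dRank_add_chain P hP p x
  have a2 := dRank_add_chain P hP p y
  omega

end Noetherian

/-- Flatness of a finitely presented module after localizing at a prime is openness of the free
locus. -/
theorem flat_localization_iff_mem_freeLocus (M : Type u) [AddCommGroup M] [Module A M]
    [Module.FinitePresentation A M] (y : PrimeSpectrum A) :
    Module.Flat (Localization.AtPrime y.asIdeal) (Localization.AtPrime y.asIdeal ⊗[A] M) ↔
      y ∈ Module.freeLocus A M := by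
  rw [Module.mem_freeLocus_iff_tensor y (Localization.AtPrime y.asIdeal)]
  exact ⟨fun h => Module.free_of_flat_of_isLocalRing, fun h => inferInstance⟩

end Groth.Agent.H06FlatCx

namespace Groth.Agent.H06FlatCx

open CategoryTheory CategoryTheory.Limits
open scoped TensorProduct

universe u

variable {A : Type u} [CommRing A] {ι : Type} {c : ComplexShape ι}
  (P : HomologicalComplex (ModuleCat.{u} A) c) {i j k : ι}

/-- Flatness of a base change, with the algebra structure as an argument. -/
def FlatBC (B : Type u) [CommRing B] [Algebra A B] (M : Type u) [AddCommGroup M] [Module A M] : Prop :=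
  Module.Flat B (B ⊗[A] M)

theorem flat_bcCoker_iff {B : Type u} [CommRing B] (φ : A →+* B) :
    Module.Flat B ((CohIII.bcCx φ P).X j ⧸ LinearMap.range ((CohIII.bcCx φ P).d i j).hom) ↔
      @FlatBC A _ B _ φ.toAlgebra (P.X j ⧸ LinearMap.range (P.d i j).hom) _ _ := by
  letI := φ.toAlgebra
  change Module.Flat B ((B ⊗[A] P.X j) ⧸ LinearMap.range ((P.d i j).hom.baseChange B)) ↔
    Module.Flat B (B ⊗[A] (P.X j ⧸ LinearMap.range (P.d i j).hom))
  exact ⟨fun _ => Module.Flat.of_linearEquiv (cokerBaseChange (P.d i j).hom).symm,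
    fun _ => Module.Flat.of_linearEquiv (cokerBaseChange (P.d i j).hom)⟩

theorem flat_bcCoker_iff_localization (y : PrimeSpectrum A) :
    Module.Flat (Localization.AtPrime y.asIdeal)
        ((CohIII.bcCx (algebraMap A (Localization.AtPrime y.asIdeal)) P).X j ⧸
          LinearMap.range ((CohIII.bcCx (algebraMap A (Localization.AtPrime y.asIdeal)) P).d i j).hom) ↔
      Module.Flat (Localization.AtPrime y.asIdeal)
        (Localization.AtPrime y.asIdeal ⊗[A] (P.X j ⧸ LinearMap.range (P.d i j).hom)) :=
  of_toAlgebra (A := A) (B := Localization.AtPrime y.asIdeal) (fun inst => _ ↔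
      @FlatBC A _ (Localization.AtPrime y.asIdeal) _ inst
        (P.X j ⧸ LinearMap.range (P.d i j).hom) _ _)
    (flat_bcCoker_iff P (algebraMap A (Localization.AtPrime y.asIdeal)))

theorem bcCx_epi_iff_localization (y : PrimeSpectrum A) (hij : c.prev j = i) (hjk : c.next j = k)
    [Module.Flat A (P.X k)] :
    (CohIII.TFun (CohIII.bcCx (algebraMap A (Localization.AtPrime y.asIdeal)) P) j).PreservesEpimorphisms ↔
      Module.Flat (Localization.AtPrime y.asIdeal)
        (Localization.AtPrime y.asIdeal ⊗[A] (P.X k ⧸ LinearMap.range (P.d j k).hom)) := by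
  haveI := bcCx_flat_X (j := k) P (algebraMap A (Localization.AtPrime y.asIdeal))
  rw [preservesEpi_iff_flat _ hij hjk]
  exact flat_bcCoker_iff_localization P y

theorem bcCx_mono_iff_localization (y : PrimeSpectrum A) (hij : c.prev j = i) (hjk : c.next j = k)
    [Module.Flat A (P.X k)] :
    (CohIII.TFun (CohIII.bcCx (algebraMap A (Localization.AtPrime y.asIdeal)) P) j).PreservesMonomorphisms ↔
      Module.Flat (Localization.AtPrime y.asIdeal)
        (Localization.AtPrime y.asIdeal ⊗[A] (P.X j ⧸ LinearMap.range (P.d i j).hom)) := by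
  haveI := bcCx_flat_X (j := k) P (algebraMap A (Localization.AtPrime y.asIdeal))
  rw [preservesMono_iff_flat _ hij hjk]
  exact flat_bcCoker_iff_localization P y

end Groth.Agent.H06FlatCx
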