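import Groth.Agent.H06FlatCx.BaseChange
import Mathlib.RingTheory.SimpleModule.Basic

/-! Chain complexes indexed by integers, and criteria over local rings. -/

set_option autoImplicit false
set_option linter.unusedSectionVars false
set_option linter.style.haveILetI false

namespace Groth.Agent.H06FlatCx

open CategoryTheory CategoryTheory.Limits MonoidalCategory
open scoped TensorProduct

universe u

variable {A : Type u} [CommRing A] (P : ChainComplex (ModuleCat.{u} A) ℤ)

/-- The cokernel of the differential into degree `p`. -/
abbrev Cok (p : ℤ) : Type u := P.X p ⧸ LinearMap.range (P.d (p + 1) p).hom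

theorem next_succ (q : ℤ) : (ComplexShape.down ℤ).next (q + 1) = q :=
  ComplexShape.next_eq' _ (by simp)

theorem mono_iff_flat_cok (p : ℤ) [Module.Flat A (P.X (p - 1))] :
    (CohIII.TFun P p).PreservesMonomorphisms ↔ Module.Flat A (Cok P p) :=
  preservesMono_iff_flat P (down_prev p) (down_next p)

theorem epi_iff_flat_cok {p q : ℤ} (hpq : q + 1 = p) [Module.Flat A (P.X q)] :
    (CohIII.TFun P p).PreservesEpimorphisms ↔ Module.Flat A (Cok P q) := by
  subst hpq
  exact preservesEpi_iff_flat P (down_prev (q + 1)) (next_succ q)

theorem epi_iff_mono_pred (hP : ∀ i, Module.Flat A (P.X i)) {p q : ℤ} (hpq : q + 1 = p) :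
    (CohIII.TFun P p).PreservesEpimorphisms ↔ (CohIII.TFun P q).PreservesMonomorphisms := by
  haveI := hP q
  haveI := hP (q - 1)
  rw [epi_iff_flat_cok P hpq, mono_iff_flat_cok P q]

section Local

variable [IsLocalRing A] {ι : Type} {c : ComplexShape ι}
  (P' : HomologicalComplex (ModuleCat.{u} A) c) {i j k : ι}

theorem spannedAt_residueField (hij : c.prev j = i) (hjk : c.next j = k)
    (hs : Function.Surjective ((CohIII.TFun P' j).map
      (ModuleCat.ofHom (Algebra.linearMap A (IsLocalRing.ResidueField A)))).hom) :
    SpannedAt (P'.d i j).hom (P'.d j k).hom (A ⧸ IsLocalRing.maximalIdeal A) :=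
  (map_surjective_iff_spannedAt P' hij hjk (F := ModuleCat.of A A)
    (ModuleCat.ofHom (Algebra.linearMap A (IsLocalRing.ResidueField A)))
    Ideal.Quotient.mk_surjective).1 hs

theorem surjective_residueField_of_epi
    (h : (CohIII.TFun P' j).PreservesEpimorphisms) :
    Function.Surjective ((CohIII.TFun P' j).map
      (ModuleCat.ofHom (Algebra.linearMap A (IsLocalRing.ResidueField A)))).hom := by
  haveI : Epi (ModuleCat.ofHom (Algebra.linearMap A (IsLocalRing.ResidueField A))) :=
    (ModuleCat.epi_iff_surjective _).2 Ideal.Quotient.mk_surjective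
  exact (ModuleCat.epi_iff_surjective _).1 (h.preserves _)

theorem epi_of_surjective_residueField (hij : c.prev j = i) (hjk : c.next j = k)
    [Module.Flat A (P'.X k)] [Module.FinitePresentation A (P'.X k)] [Module.Finite A (P'.X j)]
    (hs : Function.Surjective ((CohIII.TFun P' j).map
      (ModuleCat.ofHom (Algebra.linearMap A (IsLocalRing.ResidueField A)))).hom) :
    (CohIII.TFun P' j).PreservesEpimorphisms := by
  rw [preservesEpi_iff_flat P' hij hjk]
  haveI : Module.FinitePresentation A (P'.X k ⧸ LinearMap.range (P'.d j k).hom) :=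
    Module.finitePresentation_of_surjective _ (Submodule.mkQ_surjective _) (by
      rw [Submodule.ker_mkQ, LinearMap.range_eq_map]
      exact Module.Finite.fg_top.map _)
  haveI : Module.Free A (P'.X k ⧸ LinearMap.range (P'.d j k).hom) := by
    refine Module.free_of_maximalIdeal_rTensor_injective
      ((LinearMap.lTensor_inj_iff_rTensor_inj _ _).1 ?_)
    exact lTensor_coker_injective (P'.d j k).hom (IsLocalRing.maximalIdeal A).subtype
      (Submodule.mkQ (IsLocalRing.maximalIdeal A)) Subtype.val_injective
      (Submodule.mkQ_surjective _) (LinearMap.exact_subtype_mkQ _)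
      (lift_of_spannedAt (d_comp_d P' i j k) _ (Submodule.mkQ_surjective _)
        (spannedAt_residueField P' hij hjk hs))
  infer_instance

theorem epi_of_surjective_residueField_artinian [IsArtinianRing A] (hij : c.prev j = i)
    (hjk : c.next j = k) [Module.Flat A (P'.X k)]
    (hs : Function.Surjective ((CohIII.TFun P' j).map
      (ModuleCat.ofHom (Algebra.linearMap A (IsLocalRing.ResidueField A)))).hom) :
    (CohIII.TFun P' j).PreservesEpimorphisms := by
  rw [preservesEpi_iff_epiLift P' hij hjk]
  refine epiLift_of_spannedAt_simple (d_comp_d P' i j k) fun S _ _ _ => ?_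
  obtain ⟨m, hm, ⟨e⟩⟩ := isSimpleModule_iff_quot_maximal.1 (inferInstance : IsSimpleModule A S)
  refine spannedAt_of_equiv e.symm ?_
  rw [IsLocalRing.eq_maximalIdeal hm]
  exact spannedAt_residueField P' hij hjk hs

theorem epi_iff_surjective_residueField (hij : c.prev j = i) (hjk : c.next j = k)
    [Module.Flat A (P'.X k)] [Module.FinitePresentation A (P'.X k)] [Module.Finite A (P'.X j)] :
    (CohIII.TFun P' j).PreservesEpimorphisms ↔
      Function.Surjective ((CohIII.TFun P' j).map
        (ModuleCat.ofHom (Algebra.linearMap A (IsLocalRing.ResidueField A)))).hom :=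
  ⟨surjective_residueField_of_epi P', epi_of_surjective_residueField P' hij hjk⟩

end Local

end Groth.Agent.H06FlatCx
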