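import Groth.Agent.H06FlatCx.Comparison
import Groth.Agent.H06FlatCx.FibreDim
import Mathlib.Topology.Semicontinuity.Basic

/-! Base change of the complex, and the rank function through fibre dimensions of cokernels. -/

set_option autoImplicit false
set_option linter.unusedSectionVars false
set_option linter.style.haveILetI false

namespace Groth.Agent.H06FlatCx

open CategoryTheory CategoryTheory.Limits MonoidalCategory
open scoped TensorProduct

universe u

variable {A : Type u} [CommRing A] {ι : Type} {c : ComplexShape ι}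

/-- A statement for the algebra structure of a ring map applies to any algebra structure. -/
theorem of_toAlgebra {B : Type u} [CommRing B] [inst : Algebra A B] (motive : Algebra A B → Prop)
    (h : motive (algebraMap A B).toAlgebra) : motive inst := by
  have : inst = (algebraMap A B).toAlgebra := Algebra.algebra_ext _ _ fun _ => rfl
  exact this.symm ▸ h

section Coker

variable {B : Type u} [CommRing B] [Algebra A B] {L Q : Type u} [AddCommGroup L] [Module A L]
  [AddCommGroup Q] [Module A Q]

/-- Cokernels commute with base change. -/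
noncomputable def cokerBaseChange (f : L →ₗ[A] Q) :
    ((B ⊗[A] Q) ⧸ LinearMap.range (f.baseChange B)) ≃ₗ[B] B ⊗[A] (Q ⧸ LinearMap.range f) :=
  (Submodule.quotEquivOfEq _ _ (by
    ext x
    exact ((lTensor_exact B (LinearMap.exact_map_mkQ_range f) (Submodule.mkQ_surjective _)) x).symm)).trans
    (((LinearMap.range f).mkQ.baseChange B).quotKerEquivOfSurjective
      (LinearMap.baseChange_surjective (A := B) (Submodule.mkQ_surjective _)))

end Coker

/-- Dimension count in a three-term complex over a field. -/
theorem finrank_homology_add {K : Type u} [Field K] {L P Q : Type u} [AddCommGroup L] [Module K L]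
    [AddCommGroup P] [Module K P] [AddCommGroup Q] [Module K Q] [Module.Finite K P]
    [Module.Finite K Q] (f : L →ₗ[K] P) (g : P →ₗ[K] Q) (h : g ∘ₗ f = 0) :
    Module.finrank K (LinearMap.ker g ⧸ (LinearMap.range f).comap (LinearMap.ker g).subtype) +
        Module.finrank K Q =
      Module.finrank K (P ⧸ LinearMap.range f) + Module.finrank K (Q ⧸ LinearMap.range g) := by
  have hle : LinearMap.range f ≤ LinearMap.ker g := LinearMap.range_le_ker_iff.2 h
  have h1 := Submodule.finrank_quotient_add_finrank
    ((LinearMap.range f).comap (LinearMap.ker g).subtype)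
  have h2 := (Submodule.comapSubtypeEquivOfLe hle).finrank_eq
  have h3 := (LinearMap.range f).finrank_quotient_add_finrank
  have h4 := (LinearMap.range g).finrank_quotient_add_finrank
  have h5 := LinearMap.finrank_range_add_finrank_ker g
  omega

variable (P : HomologicalComplex (ModuleCat.{u} A) c) {i j k : ι}

section RingHom

variable {B : Type u} [CommRing B] (φ : A →+* B)

theorem bcCx_flat_X [Module.Flat A (P.X j)] : Module.Flat B ((CohIII.bcCx φ P).X j) := by
  letI := φ.toAlgebra
  change Module.Flat B (B ⊗[A] P.X j)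
  infer_instance

theorem bcCx_flat_coker (h : Module.Flat A (P.X j ⧸ LinearMap.range (P.d i j).hom)) :
    Module.Flat B ((CohIII.bcCx φ P).X j ⧸ LinearMap.range ((CohIII.bcCx φ P).d i j).hom) := by
  letI := φ.toAlgebra
  change Module.Flat B ((B ⊗[A] P.X j) ⧸ LinearMap.range ((P.d i j).hom.baseChange B))
  exact Module.Flat.of_linearEquiv (cokerBaseChange (P.d i j).hom)

theorem flat_coker_of_bcCx (hφ : φ.FaithfullyFlat)
    (h : Module.Flat B ((CohIII.bcCx φ P).X j ⧸ LinearMap.range ((CohIII.bcCx φ P).d i j).hom)) :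
    Module.Flat A (P.X j ⧸ LinearMap.range (P.d i j).hom) := by
  letI := φ.toAlgebra
  change Module.Flat B ((B ⊗[A] P.X j) ⧸ LinearMap.range ((P.d i j).hom.baseChange B)) at h
  haveI : Module.FaithfullyFlat A B := hφ
  haveI : Module.Flat B (B ⊗[A] (P.X j ⧸ LinearMap.range (P.d i j).hom)) :=
    Module.Flat.of_linearEquiv (cokerBaseChange (P.d i j).hom).symm
  exact Module.Flat.of_flat_tensorProduct A _ B

theorem bcCx_preservesEpi_of (hij : c.prev j = i) (hjk : c.next j = k) [Module.Flat A (P.X k)]
    (h : (CohIII.TFun P j).PreservesEpimorphisms) :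
    (CohIII.TFun (CohIII.bcCx φ P) j).PreservesEpimorphisms := by
  haveI := bcCx_flat_X (j := k) P φ
  rw [preservesEpi_iff_flat P hij hjk] at h
  exact (preservesEpi_iff_flat (CohIII.bcCx φ P) hij hjk).2 (bcCx_flat_coker P φ h)

theorem bcCx_preservesMono_of (hij : c.prev j = i) (hjk : c.next j = k) [Module.Flat A (P.X k)]
    (h : (CohIII.TFun P j).PreservesMonomorphisms) :
    (CohIII.TFun (CohIII.bcCx φ P) j).PreservesMonomorphisms := by
  haveI := bcCx_flat_X (j := k) P φ
  rw [preservesMono_iff_flat P hij hjk] at h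
  exact (preservesMono_iff_flat (CohIII.bcCx φ P) hij hjk).2 (bcCx_flat_coker P φ h)

theorem bcCx_preservesEpi_iff (hφ : φ.FaithfullyFlat) (hij : c.prev j = i) (hjk : c.next j = k)
    [Module.Flat A (P.X k)] :
    (CohIII.TFun (CohIII.bcCx φ P) j).PreservesEpimorphisms ↔
      (CohIII.TFun P j).PreservesEpimorphisms := by
  refine ⟨fun h => ?_, bcCx_preservesEpi_of P φ hij hjk⟩
  haveI := bcCx_flat_X (j := k) P φ
  rw [preservesEpi_iff_flat (CohIII.bcCx φ P) hij hjk] at h
  exact (preservesEpi_iff_flat P hij hjk).2 (flat_coker_of_bcCx P φ hφ h)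

theorem bcCx_preservesMono_iff (hφ : φ.FaithfullyFlat) (hij : c.prev j = i) (hjk : c.next j = k)
    [Module.Flat A (P.X k)] :
    (CohIII.TFun (CohIII.bcCx φ P) j).PreservesMonomorphisms ↔
      (CohIII.TFun P j).PreservesMonomorphisms := by
  refine ⟨fun h => ?_, bcCx_preservesMono_of P φ hij hjk⟩
  haveI := bcCx_flat_X (j := k) P φ
  rw [preservesMono_iff_flat (CohIII.bcCx φ P) hij hjk] at h
  exact (preservesMono_iff_flat P hij hjk).2 (flat_coker_of_bcCx P φ hφ h)

theorem bcCx_finrank_add {K : Type u} [Field K] (φ : A →+* K) (hij : c.prev j = i)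
    (hjk : c.next j = k) [Module.Finite A (P.X j)] [Module.Finite A (P.X k)] :
    letI := φ.toAlgebra
    Module.finrank K ((CohIII.bcCx φ P).homology j) + Module.finrank K (K ⊗[A] P.X k) =
      Module.finrank K (K ⊗[A] (P.X j ⧸ LinearMap.range (P.d i j).hom)) +
        Module.finrank K (K ⊗[A] (P.X k ⧸ LinearMap.range (P.d j k).hom)) := by
  letI := φ.toAlgebra
  rw [← (homologyEquiv (CohIII.bcCx φ P) hij hjk).finrank_eq,
    ← (cokerBaseChange (P.d i j).hom).finrank_eq, ← (cokerBaseChange (P.d j k).hom).finrank_eq]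
  exact finrank_homology_add ((P.d i j).hom.baseChange K) ((P.d j k).hom.baseChange K) (by
    rw [← LinearMap.baseChange_comp, d_comp_d, LinearMap.baseChange_zero])

end RingHom

/-- The dimension of `K ⊗ M`, with the algebra structure as an argument. -/
noncomputable def fibFin (K : Type u) [Field K] [Algebra A K] (M : Type u) [AddCommGroup M]
    [Module A M] : ℕ :=
  Module.finrank K (K ⊗[A] M)

theorem dRank_add (hij : c.prev j = i) (hjk : c.next j = k) [Module.Finite A (P.X j)]
    [Module.Finite A (P.X k)] (x : PrimeSpectrum A) :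
    CohIII.dRank P j x + fibDim (P.X k) x =
      fibDim (P.X j ⧸ LinearMap.range (P.d i j).hom) x +
        fibDim (P.X k ⧸ LinearMap.range (P.d j k).hom) x :=
  of_toAlgebra (A := A) (B := x.asIdeal.ResidueField)
    (fun inst =>
      CohIII.dRank P j x + @fibFin A _ x.asIdeal.ResidueField _ inst (P.X k) _ _ =
        @fibFin A _ x.asIdeal.ResidueField _ inst (P.X j ⧸ LinearMap.range (P.d i j).hom) _ _ +
          @fibFin A _ x.asIdeal.ResidueField _ inst (P.X k ⧸ LinearMap.range (P.d j k).hom) _ _)
    (bcCx_finrank_add P (algebraMap A x.asIdeal.ResidueField) hij hjk)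

section Finite

variable [IsNoetherianRing A]

theorem fibDim_X_isLocallyConstant [Module.Finite A (P.X k)] [Module.Flat A (P.X k)] :
    IsLocallyConstant (fibDim (A := A) (P.X k)) := by
  haveI := Module.finitePresentation_of_finite A (P.X k)
  rw [show fibDim (A := A) (P.X k) = Module.rankAtStalk (R := A) (P.X k) from
    funext (fibDim_eq_rankAtStalk (P.X k))]
  exact Module.isLocallyConstant_rankAtStalk

theorem dRank_upperSemicontinuous (hij : c.prev j = i) (hjk : c.next j = k)
    [Module.Finite A (P.X j)] [Module.Finite A (P.X k)] [Module.Flat A (P.X k)] :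
    UpperSemicontinuous (CohIII.dRank P j) := by
  intro x r hr
  have h0 := (fibDim_X_isLocallyConstant P (k := k)).isOpen_fiber (fibDim (P.X k) x)
  have h1 := isOpen_fibDim_le (A := A) (P.X j ⧸ LinearMap.range (P.d i j).hom)
    (fibDim (P.X j ⧸ LinearMap.range (P.d i j).hom) x)
  have h2 := isOpen_fibDim_le (A := A) (P.X k ⧸ LinearMap.range (P.d j k).hom)
    (fibDim (P.X k ⧸ LinearMap.range (P.d j k).hom) x)
  have m1 : x ∈ {y | fibDim (P.X j ⧸ LinearMap.range (P.d i j).hom) y ≤
      fibDim (P.X j ⧸ LinearMap.range (P.d i j).hom) x} := by simp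
  have m2 : x ∈ {y | fibDim (P.X k ⧸ LinearMap.range (P.d j k).hom) y ≤
      fibDim (P.X k ⧸ LinearMap.range (P.d j k).hom) x} := by simp
  filter_upwards [h0.mem_nhds rfl, h1.mem_nhds m1, h2.mem_nhds m2] with y e0 e1 e2
  have a1 := dRank_add P hij hjk x
  have a2 := dRank_add P hij hjk y
  change fibDim (P.X k) y = fibDim (P.X k) x at e0
  change fibDim _ y ≤ fibDim _ x at e1
  change fibDim _ y ≤ fibDim _ x at e2
  omega

end Finite

end Groth.Agent.H06FlatCx
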