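import Groth.Agent.H06FlatCx.Translate

/-! The comparison `H_j(P) ⊗ M ⟶ H_j(P ⊗ M)`. -/

set_option autoImplicit false
set_option linter.unusedSectionVars false

namespace Groth.Agent.H06FlatCx

open CategoryTheory CategoryTheory.Limits MonoidalCategory
open scoped TensorProduct

universe u

variable {A : Type u} [CommRing A] {ι : Type} {c : ComplexShape ι}
variable (P : HomologicalComplex (ModuleCat.{u} A) c) {i j k : ι}

/-- Cycles modulo boundaries at `j`. -/
abbrev H0 (i j k : ι) : Type u :=
  LinearMap.ker (P.d j k).hom ⧸ LinearMap.range (toKer (d_comp_d P i j k))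

/-- Cycles modulo boundaries is homology. -/
noncomputable def h0Equiv (hij : c.prev j = i) (hjk : c.next j = k) :
    H0 P i j k ≃ₗ[A] P.homology j :=
  (Submodule.quotEquivOfEq _ _ (by
    ext x
    simp only [LinearMap.mem_range, Submodule.mem_comap, Submodule.subtype_apply]
    exact exists_congr fun y => ⟨fun h => congrArg Subtype.val h, fun h => Subtype.ext h⟩)).trans
      (homologyEquiv P hij hjk)

/-- The map `Z ⊗ M → H_j(P ⊗ M)`. -/
noncomputable def preComp (hjk : c.next j = k) (M : ModuleCat.{u} A) :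
    LinearMap.ker (P.d j k).hom ⊗[A] M →ₗ[A] (CohIII.TFun P j).obj M :=
  tcls P hjk M ∘ₗ
    ((LinearMap.ker (P.d j k).hom).subtype.rTensor M).codRestrict _ fun a => by
      rw [LinearMap.mem_ker, ← LinearMap.rTensor_comp_apply, LinearMap.comp_ker_subtype,
        LinearMap.rTensor_zero, LinearMap.zero_apply]

theorem preComp_toKer (hij : c.prev j = i) (hjk : c.next j = k) (M : ModuleCat.{u} A) :
    LinearMap.range ((toKer (d_comp_d P i j k)).rTensor M) ≤
      LinearMap.ker (preComp P hjk M) := by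
  rintro _ ⟨b, rfl⟩
  rw [LinearMap.mem_ker, preComp, LinearMap.comp_apply, tcls_eq_zero_iff P hij]
  exact ⟨b, (subtype_toKer_rTensor (d_comp_d P i j k) b).symm⟩

/-- The comparison map. -/
noncomputable def compMap (hij : c.prev j = i) (hjk : c.next j = k) (M : ModuleCat.{u} A) :
    H0 P i j k ⊗[A] M →ₗ[A] (CohIII.TFun P j).obj M :=
  Submodule.liftQ _ (preComp P hjk M) (preComp_toKer P hij hjk M) ∘ₗ
    (rTensor.equiv M (LinearMap.exact_map_mkQ_range (toKer (d_comp_d P i j k)))
      (Submodule.mkQ_surjective _)).symm.toLinearMap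

theorem compMap_mkQ (hij : c.prev j = i) (hjk : c.next j = k) (M : ModuleCat.{u} A)
    (a : LinearMap.ker (P.d j k).hom ⊗[A] M) :
    compMap P hij hjk M
        ((LinearMap.range (toKer (d_comp_d P i j k))).mkQ.rTensor M a) = preComp P hjk M a := by
  have : (rTensor.equiv M (LinearMap.exact_map_mkQ_range (toKer (d_comp_d P i j k)))
      (Submodule.mkQ_surjective _)).symm
        ((LinearMap.range (toKer (d_comp_d P i j k))).mkQ.rTensor M a) =
      Submodule.Quotient.mk a := by
    rw [LinearEquiv.symm_apply_eq]; rfl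
  rw [compMap, LinearMap.comp_apply, LinearEquiv.coe_coe, this]
  rfl

theorem compMap_natural (hij : c.prev j = i) (hjk : c.next j = k) {M N : ModuleCat.{u} A}
    (φ : M ⟶ N) (x : H0 P i j k ⊗[A] M) :
    compMap P hij hjk N (φ.hom.lTensor _ x) =
      ((CohIII.TFun P j).map φ).hom (compMap P hij hjk M x) := by
  obtain ⟨a, rfl⟩ := LinearMap.rTensor_surjective M (Submodule.mkQ_surjective _) x
  rw [lTensor_rTensor_apply, compMap_mkQ, compMap_mkQ, preComp, preComp, LinearMap.comp_apply,
    LinearMap.comp_apply, map_tcls]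
  exact congrArg _ (Subtype.ext (lTensor_rTensor_apply _ φ.hom a).symm)

theorem compMap_surjective_iff (hij : c.prev j = i) (hjk : c.next j = k) (M : ModuleCat.{u} A) :
    Function.Surjective (compMap P hij hjk M) ↔
      SpannedAt (P.d i j).hom (P.d j k).hom M := by
  constructor
  · intro H z hz
    obtain ⟨x, hx⟩ := H (tcls P hjk M ⟨z, hz⟩)
    obtain ⟨a, rfl⟩ := LinearMap.rTensor_surjective M (Submodule.mkQ_surjective _) x
    rw [compMap_mkQ, preComp, LinearMap.comp_apply, ← sub_eq_zero, ← map_sub,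
      tcls_eq_zero_iff P hij] at hx
    obtain ⟨b, hb⟩ := hx
    refine Submodule.mem_sup.2 ⟨_, ⟨a, rfl⟩, _, ⟨-b, rfl⟩, ?_⟩
    rw [map_neg, hb, ← sub_eq_add_neg]
    exact sub_sub_cancel _ _
  · intro H t
    obtain ⟨⟨z, hz⟩, rfl⟩ := tcls_surjective P hjk _ t
    obtain ⟨_, ⟨a, rfl⟩, _, ⟨b, rfl⟩, hab⟩ := Submodule.mem_sup.1 (H hz)
    refine ⟨(LinearMap.range (toKer (d_comp_d P i j k))).mkQ.rTensor M a, ?_⟩
    rw [compMap_mkQ, preComp, LinearMap.comp_apply, ← sub_eq_zero, ← map_sub,
      tcls_eq_zero_iff P hij]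
    refine ⟨-b, ?_⟩
    rw [map_neg]
    refine (sub_eq_of_eq_add ?_).symm
    change _ = -_ + z
    rw [← hab]
    simp only [LinearMap.codRestrict_apply]
    abel

theorem compMap_injective_of (hij : c.prev j = i) (hjk : c.next j = k) (M : ModuleCat.{u} A)
    (hinj : Function.Injective ((LinearMap.ker (P.d j k).hom).subtype.rTensor M)) :
    Function.Injective (compMap P hij hjk M) := by
  refine (injective_iff_map_eq_zero (compMap P hij hjk M)).2 fun x hx => ?_
  obtain ⟨a, rfl⟩ := LinearMap.rTensor_surjective M (Submodule.mkQ_surjective _) x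
  rw [compMap_mkQ, preComp, LinearMap.comp_apply, tcls_eq_zero_iff P hij] at hx
  obtain ⟨b, hb⟩ := hx
  rw [mkQ_range_rTensor]
  exact ⟨b, hinj ((subtype_toKer_rTensor (d_comp_d P i j k) b).trans hb)⟩

theorem compMap_bijective_of_flat (hij : c.prev j = i) (hjk : c.next j = k) (M : ModuleCat.{u} A)
    [Module.Flat A M] : Function.Bijective (compMap P hij hjk M) := by
  refine ⟨compMap_injective_of P hij hjk M
    (Module.Flat.rTensor_preserves_injective_linearMap _ Subtype.val_injective), ?_⟩
  rw [compMap_surjective_iff]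
  intro z hz
  exact Submodule.mem_sup_left
    ((Module.Flat.rTensor_exact M (P.d j k).hom.exact_subtype_ker_map z).1 hz)

theorem compMap_bijective_of_epi (hij : c.prev j = i) (hjk : c.next j = k)
    [Module.Flat A (P.X k)] (hE : EpiLift (P.d j k).hom) (M : ModuleCat.{u} A) :
    Function.Bijective (compMap P hij hjk M) :=
  ⟨compMap_injective_of P hij hjk M (ker_subtype_rTensor_injective _ hE M),
    (compMap_surjective_iff P hij hjk M).2 (spannedAt_of_epiLift _ _ hE M)⟩

/-- `H_j(P ⊗ M) ≅ H_j(P) ⊗ M` for `M` flat. -/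
noncomputable def tEquivOfFlat (hij : c.prev j = i) (hjk : c.next j = k) (M : ModuleCat.{u} A)
    [Module.Flat A M] : H0 P i j k ⊗[A] M ≃ₗ[A] (CohIII.TFun P j).obj M :=
  LinearEquiv.ofBijective _ (compMap_bijective_of_flat P hij hjk M)

/-- `H_j(P ⊗ A) ≅ H_j(P)`, in cycle form. -/
noncomputable def tSelfEquiv (hij : c.prev j = i) (hjk : c.next j = k) :
    H0 P i j k ≃ₗ[A] (CohIII.TFun P j).obj (ModuleCat.of A A) :=
  (TensorProduct.rid A _).symm.trans (tEquivOfFlat P hij hjk (ModuleCat.of A A))

/-- Right exactness gives a natural isomorphism with a tensor product. -/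
noncomputable def tFunIso (hij : c.prev j = i) (hjk : c.next j = k) [Module.Flat A (P.X k)]
    (hE : EpiLift (P.d j k).hom) :
    CohIII.TFun P j ≅ tensorLeft (ModuleCat.of A (H0 P i j k)) :=
  (NatIso.ofComponents
    (fun M => (LinearEquiv.ofBijective _ (compMap_bijective_of_epi P hij hjk hE M)).toModuleIso)
    (fun {M N} φ => by
      refine ModuleCat.hom_ext (LinearMap.ext fun x => ?_)
      exact compMap_natural P hij hjk φ x) :
      tensorLeft (ModuleCat.of A (H0 P i j k)) ≅ CohIII.TFun P j).symm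

theorem flat_h0_iff_mono (hij : c.prev j = i) (hjk : c.next j = k) [Module.Flat A (P.X k)]
    (hE : (CohIII.TFun P j).PreservesEpimorphisms) :
    (CohIII.TFun P j).PreservesMonomorphisms ↔ Module.Flat A (H0 P i j k) :=
  (preservesMono_iff_monoBd P hij hjk).trans
    (monoBd_iff_flat_homology (d_comp_d P i j k) ((preservesEpi_iff_epiLift P hij hjk).1 hE))

theorem down_prev (p : ℤ) : (ComplexShape.down ℤ).prev p = p + 1 :=
  ComplexShape.prev_eq' _ (by simp)

theorem down_next (p : ℤ) : (ComplexShape.down ℤ).next p = p - 1 :=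
  ComplexShape.next_eq' _ (by simp)

end Groth.Agent.H06FlatCx
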