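import Groth.Agent.H06FlatCx.Local
import Groth.Agent.H06FlatCx.Comparison
import Groth.Agent.S4492
import Mathlib

/-! Lengths of `H_j(P ⊗ M)` over Artinian local rings. -/

set_option autoImplicit false
set_option linter.unusedSectionVars false
set_option linter.style.haveILetI false

namespace Groth.Agent.H06FlatCx

open CategoryTheory CategoryTheory.Limits MonoidalCategory
open scoped TensorProduct

universe u

section General

variable {A : Type u} [CommRing A] {ι : Type} {c : ComplexShape ι}
variable (P : HomologicalComplex (ModuleCat.{u} A) c)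

instance tFun_additive (j : ι) : (CohIII.TFun P j).Additive where
  map_add {M N φ ψ} := by
    refine ModuleCat.hom_ext (LinearMap.ext fun t => ?_)
    obtain ⟨w, rfl⟩ := tcls_surjective P rfl M t
    rw [ModuleCat.hom_add, LinearMap.add_apply, map_tcls, map_tcls, map_tcls, ← map_add]
    refine congrArg _ (Subtype.ext ?_)
    simp [LinearMap.lTensor_add]

variable {i j k : ι}

theorem tFun_exact (hij : c.prev j = i) (hjk : c.next j = k) [Module.Flat A (P.X k)]
    (S : ShortComplex (ModuleCat.{u} A)) (hS : S.ShortExact) : (S.map (CohIII.TFun P j)).Exact := by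
  refine ShortComplex.Exact.moduleCat_of_range_eq_ker _ _ (le_antisymm ?_ fun t ht => ?_)
  · rintro _ ⟨x, rfl⟩
    exact congr($((S.map (CohIII.TFun P j)).zero).hom x)
  obtain ⟨⟨z, hz⟩, rfl⟩ := tcls_surjective P hjk S.X₂ t
  rw [LinearMap.mem_ker, map_tcls, tcls_eq_zero_iff P hij] at ht
  obtain ⟨b'', hb''⟩ := ht
  obtain ⟨b, rfl⟩ := LinearMap.lTensor_surjective (P.X i) hS.moduleCat_surjective_g b''
  rw [← lTensor_rTensor_apply] at hb''
  have hex := lTensor_exact (P.X j) ((ShortComplex.ShortExact.moduleCat_exact_iff_function_exact S).1 hS.exact)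
    hS.moduleCat_surjective_g
  obtain ⟨w, hw⟩ := (hex (z - (P.d i j).hom.rTensor S.X₂ b)).1 (by rw [map_sub, hb'']; exact sub_self _)
  have hwz : (P.d j k).hom.rTensor S.X₁ w = 0 := by
    refine Module.Flat.lTensor_preserves_injective_linearMap (M := P.X k) _ hS.moduleCat_injective_f ?_
    rw [lTensor_rTensor_apply, hw, map_sub, LinearMap.mem_ker.1 hz, rTensor_comp_zero (d_comp_d P i j k),
      sub_zero, map_zero]
  refine ⟨tcls P hjk S.X₁ ⟨w, hwz⟩, ?_⟩
  rw [map_tcls, ← sub_eq_zero, ← map_sub, tcls_eq_zero_iff P hij]
  refine ⟨-b, ?_⟩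
  show _ = S.f.hom.lTensor (P.X j) w - z
  rw [hw, map_neg]
  abel

end General

section Artinian

variable {A : Type u} [CommRing A] [IsLocalRing A] (P : ChainComplex (ModuleCat.{u} A) ℤ)
  (hP : ∀ i, Module.Flat A (P.X i)) (p : ℤ)


/-- The short exact sequence of the maximal ideal. -/
noncomputable def maxSeq (A : Type u) [CommRing A] [IsLocalRing A] : ShortComplex (ModuleCat.{u} A) :=
  ShortComplex.mk (ModuleCat.ofHom (IsLocalRing.maximalIdeal A).subtype)
    (ModuleCat.ofHom (Algebra.linearMap A (IsLocalRing.ResidueField A)))
    (ModuleCat.hom_ext (LinearMap.ext fun x => Ideal.Quotient.eq_zero_iff_mem.mpr x.2))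

theorem maxSeq_shortExact : (maxSeq A).ShortExact where
  exact := (ShortComplex.ShortExact.moduleCat_exact_iff_function_exact _).mpr
    (LinearMap.exact_iff.mpr (by
      show LinearMap.ker (Algebra.linearMap A (IsLocalRing.ResidueField A)) = LinearMap.range (IsLocalRing.maximalIdeal A).subtype
      rw [Submodule.range_subtype]
      ext x
      exact Ideal.Quotient.eq_zero_iff_mem))
  mono_f := (ModuleCat.mono_iff_injective _).mpr Subtype.val_injective
  epi_g := (ModuleCat.epi_iff_surjective _).mpr (IsLocalRing.residue_surjective (R := A))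

theorem simple_residueField : IsSimpleModule A (IsLocalRing.ResidueField A) :=
  isSimpleModule_iff_quot_maximal.2 ⟨_, inferInstance, ⟨LinearEquiv.refl A _⟩⟩

theorem length_residueField : Module.length A (IsLocalRing.ResidueField A) = 1 :=
  haveI := simple_residueField (A := A)
  Module.length_eq_one A (IsLocalRing.ResidueField A)

theorem nonempty_iso_residueField (M : ModuleCat.{u} A) (h : IsSimpleModule A M) :
    Nonempty (M ≅ ModuleCat.of A (IsLocalRing.ResidueField A)) := by
  obtain ⟨m, hm, ⟨e⟩⟩ := isSimpleModule_iff_quot_maximal.1 h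
  obtain rfl := IsLocalRing.eq_maximalIdeal hm
  exact ⟨e.toModuleIso⟩

include hP in
theorem half_exact (S : ShortComplex (ModuleCat.{u} A)) (hS : S.ShortExact) :
    (S.map (CohIII.TFun P p)).Exact :=
  haveI := hP (p - 1)
  tFun_exact P (down_prev p) (down_next p) S hS

variable (hd : Module.length A (CohIII.T P p (ModuleCat.of A (IsLocalRing.ResidueField A))) ≠ ⊤)

include hd in
theorem simple_finite (M : ModuleCat.{u} A) (h : IsSimpleModule A M) :
    Module.length A ((CohIII.TFun P p).obj M) ≠ ⊤ := by
  obtain ⟨e⟩ := nonempty_iso_residueField M h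
  rw [((CohIII.TFun P p).mapIso e).toLinearEquiv.length_eq]
  exact hd

/-- Induction along composition series. -/
theorem induction_finiteLength {motive : ModuleCat.{u} A → Prop}
    (h0 : ∀ M : ModuleCat.{u} A, IsZero M → motive M)
    (hs : ∀ S : ShortComplex (ModuleCat.{u} A), S.ShortExact → Module.length A S.X₂ ≠ ⊤ →
      IsSimpleModule A S.X₃ → motive S.X₁ → motive S.X₂)
    (M : ModuleCat.{u} A) (hM : Module.length A M ≠ ⊤) : motive M := by
  suffices h : ∀ (N : Type u) [AddCommGroup N] [Module A N], IsFiniteLength A N → motive (ModuleCat.of A N) from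
    h M (Module.length_ne_top_iff.mp hM)
  intro N _ _ hN
  induction hN with
  | of_subsingleton => exact h0 _ (ModuleCat.isZero_of_subsingleton _)
  | of_simple_quotient hN ih =>
    rename_i M _ _ N _
    exact hs (ShortComplex.mk (ModuleCat.ofHom N.subtype) (ModuleCat.ofHom N.mkQ)
      (ModuleCat.hom_ext (LinearMap.ext fun x => (Submodule.Quotient.mk_eq_zero N).mpr x.2)))
      { exact := (ShortComplex.ShortExact.moduleCat_exact_iff_function_exact _).mpr (LinearMap.exact_subtype_mkQ N)
        mono_f := (ModuleCat.mono_iff_injective _).mpr N.subtype_injective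
        epi_g := (ModuleCat.epi_iff_surjective _).mpr N.mkQ_surjective }
      (Module.length_ne_top_iff.mpr (IsFiniteLength.of_simple_quotient hN)) ‹_› ih

include hP hd in
theorem length_le (M : ModuleCat.{u} A) (hM : Module.length A M ≠ ⊤) :
    Module.length A (CohIII.T P p M) ≤
      Module.length A (CohIII.T P p (ModuleCat.of A (IsLocalRing.ResidueField A))) * Module.length A M := by
  refine induction_finiteLength (motive := fun M => Module.length A (CohIII.T P p M) ≤
      Module.length A (CohIII.T P p (ModuleCat.of A (IsLocalRing.ResidueField A))) * Module.length A M) (fun N hN => ?_) (fun S hS hl hs ih => ?_) M hM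
  · haveI : Subsingleton ((CohIII.TFun P p).obj N) :=
      ModuleCat.subsingleton_of_isZero ((CohIII.TFun P p).map_isZero hN)
    show Module.length A ((CohIII.TFun P p).obj N) ≤ _
    rw [Module.length_eq_zero]
    exact zero_le
  · obtain ⟨e⟩ := nonempty_iso_residueField S.X₃ hs
    haveI := hs
    have h1 := ((S4492.result (CohIII.TFun P p) (half_exact P hP p) (simple_finite P p hd)).2 S hS hl).1
    rw [((CohIII.TFun P p).mapIso e).toLinearEquiv.length_eq] at h1
    refine h1.trans ?_
    rw [Module.length_eq_add_of_exact S.f.hom S.g.hom hS.moduleCat_injective_f hS.moduleCat_surjective_g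
      ((ShortComplex.ShortExact.moduleCat_exact_iff_function_exact S).1 hS.exact),
      Module.length_eq_one A S.X₃, mul_add, mul_one]
    exact add_le_add ih le_rfl

include hP hd in
theorem length_eq_of_exact (hm : (CohIII.TFun P p).PreservesMonomorphisms)
    (he : (CohIII.TFun P p).PreservesEpimorphisms) (M : ModuleCat.{u} A) (hM : Module.length A M ≠ ⊤) :
    Module.length A (CohIII.T P p M) =
      Module.length A (CohIII.T P p (ModuleCat.of A (IsLocalRing.ResidueField A))) * Module.length A M := by
  refine induction_finiteLength (motive := fun M => Module.length A (CohIII.T P p M) =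
      Module.length A (CohIII.T P p (ModuleCat.of A (IsLocalRing.ResidueField A))) * Module.length A M) (fun N hN => ?_) (fun S hS hl hs ih => ?_) M hM
  · haveI : Subsingleton ((CohIII.TFun P p).obj N) :=
      ModuleCat.subsingleton_of_isZero ((CohIII.TFun P p).map_isZero hN)
    haveI := ModuleCat.subsingleton_of_isZero hN
    show Module.length A ((CohIII.TFun P p).obj N) = _
    rw [Module.length_eq_zero, Module.length_eq_zero (M := N), mul_zero]
  · obtain ⟨e⟩ := nonempty_iso_residueField S.X₃ hs
    haveI := hs
    haveI := hS.mono_f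
    haveI := hS.epi_g
    have hse : (S.map (CohIII.TFun P p)).ShortExact :=
      { exact := half_exact P hP p S hS
        mono_f := hm.preserves S.f
        epi_g := he.preserves S.g }
    have h1 := ((S4492.result (CohIII.TFun P p) (half_exact P hP p) (simple_finite P p hd)).2 S hS hl).2.2 hse
    rw [((CohIII.TFun P p).mapIso e).toLinearEquiv.length_eq] at h1
    refine h1.trans ?_
    rw [Module.length_eq_add_of_exact S.f.hom S.g.hom hS.moduleCat_injective_f hS.moduleCat_surjective_g
      ((ShortComplex.ShortExact.moduleCat_exact_iff_function_exact S).1 hS.exact),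
      Module.length_eq_one A S.X₃, mul_add, mul_one]
    exact congrArg (· + _) ih

variable [IsArtinianRing A]

include hP hd in
/-- The length equality at the ring. -/
theorem of_length_eq
    (hj : Module.length A (CohIII.T P p (ModuleCat.of A A)) =
      Module.length A (CohIII.T P p (ModuleCat.of A (IsLocalRing.ResidueField A))) * Module.length A A) :
    Function.Surjective ((CohIII.TFun P p).map (ModuleCat.ofHom (Algebra.linearMap A (IsLocalRing.ResidueField A)))).hom ∧
      (CohIII.TFun P p).PreservesEpimorphisms ∧ (CohIII.TFun P p).PreservesMonomorphisms ∧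
      Module.Flat A (CohIII.T P p (ModuleCat.of A A)) := by
  haveI := hP (p - 1)
  have hA : Module.length A A ≠ ⊤ :=
    Module.length_ne_top_iff.mpr (isFiniteLength_iff_isNoetherian_isArtinian.mpr ⟨inferInstance, inferInstance⟩)
  have hmA : Module.length A A = Module.length A (IsLocalRing.maximalIdeal A) + 1 := by
    rw [Module.length_eq_add_of_exact (IsLocalRing.maximalIdeal A).subtype (Algebra.linearMap A (IsLocalRing.ResidueField A))
      Subtype.val_injective Ideal.Quotient.mk_surjective
      ((ShortComplex.ShortExact.moduleCat_exact_iff_function_exact (maxSeq A)).1 maxSeq_shortExact.exact),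
      length_residueField]
  have h4 := (S4492.result (CohIII.TFun P p) (half_exact P hP p) (simple_finite P p hd))
  have hTA : Module.length A ((CohIII.TFun P p).obj (ModuleCat.of A A)) ≠ ⊤ := h4.1 (ModuleCat.of A A) hA
  have hsub := (h4.2 (maxSeq A) maxSeq_shortExact hA)
  have hse : ((maxSeq A).map (CohIII.TFun P p)).ShortExact := by
    refine hsub.2.1 (le_antisymm hsub.1 ?_)
    refine le_of_le_of_eq (add_le_add (length_le P hP p hd (ModuleCat.of A (IsLocalRing.maximalIdeal A))
      (ne_top_of_le_ne_top hA (Module.length_le_of_injective (IsLocalRing.maximalIdeal A).subtype Subtype.val_injective))) le_rfl) ?_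
    refine Eq.trans ?_ hj.symm
    rw [hmA, mul_add, mul_one]
    rfl
  have hs : Function.Surjective ((CohIII.TFun P p).map (ModuleCat.ofHom (Algebra.linearMap A (IsLocalRing.ResidueField A)))).hom :=
    hse.moduleCat_surjective_g
  have he := epi_of_surjective_residueField_artinian P (down_prev p) (down_next p) hs
  let e := tSelfEquiv P (down_prev p) (down_next p)
  haveI : Module.Finite A (H0 P (p + 1) p (p - 1)) := by
    haveI : Module.Finite A ((CohIII.TFun P p).obj (ModuleCat.of A A)) := by
      haveI := (isFiniteLength_iff_isNoetherian_isArtinian.mp (Module.length_ne_top_iff.mp hTA)).1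
      infer_instance
    exact Module.Finite.equiv e.symm
  haveI := Module.finitePresentation_of_finite A (H0 P (p + 1) p (p - 1))
  have hbij := compMap_bijective_of_epi P (down_prev p) (down_next p)
    ((preservesEpi_iff_epiLift P (down_prev p) (down_next p)).1 he)
  haveI : Module.Free A (H0 P (p + 1) p (p - 1)) := by
    refine Module.free_of_maximalIdeal_rTensor_injective
      ((LinearMap.lTensor_inj_iff_rTensor_inj _ _).1 fun a b hab => ?_)
    refine (hbij (ModuleCat.of A (IsLocalRing.maximalIdeal A))).1 (hse.moduleCat_injective_f ?_)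
    have hn := compMap_natural P (down_prev p) (down_next p) (maxSeq A).f
    exact ((hn a).symm.trans (congrArg (compMap P (down_prev p) (down_next p) _) hab)).trans (hn b)
  refine ⟨hs, he, (flat_h0_iff_mono P (down_prev p) (down_next p) he).2 inferInstance, ?_⟩
  exact Module.Flat.of_linearEquiv e.symm

end Artinian

end Groth.Agent.H06FlatCx
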