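import Groth.Agent.H06FlatCx.Criteria

/-! Homology of base changed complexes. -/

set_option autoImplicit false
set_option linter.unusedSectionVars false
set_option linter.style.haveILetI false

namespace Groth.Agent.H06FlatCx

open CategoryTheory CategoryTheory.Limits MonoidalCategory
open scoped TensorProduct

universe u

section Algebra

variable {R : Type u} [CommRing R] {L P Q : Type u} [AddCommGroup L] [Module R L] [AddCommGroup P]
  [Module R P] [AddCommGroup Q] [Module R Q] {f : L →ₗ[R] P} {g : P →ₗ[R] Q}

/-- Homology of a three-term complex. -/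
abbrev homQuot (h : g ∘ₗ f = 0) : Type u := LinearMap.ker g ⧸ LinearMap.range (toKer h)

theorem baseChange_comp_zero (B : Type u) [CommRing B] [Algebra R B] (h : g ∘ₗ f = 0) :
    g.baseChange B ∘ₗ f.baseChange B = 0 := by
  rw [← LinearMap.baseChange_comp, h, LinearMap.baseChange_zero]

/-- Homology commutes with base change when cycles do. -/
noncomputable def bcHomEquiv (B : Type u) [CommRing B] [Algebra R B] (h : g ∘ₗ f = 0)
    (hinj : Function.Injective ((LinearMap.ker g).subtype.baseChange B))
    (hex : Function.Exact ((LinearMap.ker g).subtype.baseChange B) (g.baseChange B)) :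
    B ⊗[R] homQuot h ≃ₗ[B] homQuot (baseChange_comp_zero B h) :=
  (cokerBaseChange (toKer h)).symm.trans
    (Submodule.Quotient.equiv _ _
      (LinearEquiv.ofBijective
        (((LinearMap.ker g).subtype.baseChange B).codRestrict (LinearMap.ker (g.baseChange B))
          fun z => hex.apply_apply_eq_zero z)
        ⟨fun _ _ e => hinj (congrArg Subtype.val e),
          fun z => ((hex z.1).1 z.2).imp fun _ e => Subtype.ext e⟩)
      (by
        rw [← LinearMap.range_comp]
        refine congrArg LinearMap.range (LinearMap.ext fun x => Subtype.ext ?_)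
        change (LinearMap.ker g).subtype.baseChange B ((toKer h).baseChange B x) = f.baseChange B x
        rw [← LinearMap.comp_apply, ← LinearMap.baseChange_comp, subtype_comp_toKer]))

theorem bc_cycles_of_flat (B : Type u) [CommRing B] [Algebra R B] [Module.Flat R B] :
    Function.Injective ((LinearMap.ker g).subtype.baseChange B) ∧
      Function.Exact ((LinearMap.ker g).subtype.baseChange B) (g.baseChange B) :=
  ⟨Module.Flat.lTensor_preserves_injective_linearMap (M := B) _ Subtype.val_injective,
    Module.Flat.lTensor_exact B g.exact_subtype_ker_map⟩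

theorem bc_cycles_of_epiLift (B : Type u) [CommRing B] [Algebra R B] [Module.Flat R Q]
    (hE : EpiLift g) :
    Function.Injective ((LinearMap.ker g).subtype.baseChange B) ∧
      Function.Exact ((LinearMap.ker g).subtype.baseChange B) (g.baseChange B) := by
  constructor
  · exact (LinearMap.lTensor_inj_iff_rTensor_inj B _).2 (ker_subtype_rTensor_injective g hE B)
  · intro z
    obtain ⟨w, rfl⟩ := (TensorProduct.comm R P B).surjective z
    change g.lTensor B _ = 0 ↔ _ ∈ Set.range ((LinearMap.ker g).subtype.lTensor B)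
    have e1 : g.lTensor B (TensorProduct.comm R P B w) = TensorProduct.comm R Q B (g.rTensor B w) := by
      induction w using TensorProduct.induction_on with
      | zero => simp
      | tmul a b => simp
      | add a b ha hb => simp [ha, hb]
    have e2 : ∀ a : LinearMap.ker g ⊗[R] B,
        (LinearMap.ker g).subtype.lTensor B (TensorProduct.comm R _ B a) =
          TensorProduct.comm R P B ((LinearMap.ker g).subtype.rTensor B a) := by
      intro a
      induction a using TensorProduct.induction_on with
      | zero => simp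
      | tmul a b => simp
      | add a b ha hb => simp [ha, hb]
    rw [e1, LinearEquiv.map_eq_zero_iff, ← LinearMap.mem_ker, ker_rTensor_eq_of_epiLift g hE]
    constructor
    · rintro ⟨a, rfl⟩
      exact ⟨_, e2 a⟩
    · rintro ⟨b, hb⟩
      obtain ⟨a, rfl⟩ := (TensorProduct.comm R _ B).surjective b
      exact ⟨a, (TensorProduct.comm R P B).injective ((e2 a).symm.trans hb)⟩

variable {L' P' Q' : Type u} [AddCommGroup L'] [Module R L'] [AddCommGroup P'] [Module R P']
  [AddCommGroup Q'] [Module R Q'] {f' : L' →ₗ[R] P'} {g' : P' →ₗ[R] Q'}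

/-- Isomorphic complexes have isomorphic homology. -/
noncomputable def homCongr (h : g ∘ₗ f = 0) (h' : g' ∘ₗ f' = 0) (eL : L ≃ₗ[R] L') (eP : P ≃ₗ[R] P')
    (eQ : Q ≃ₗ[R] Q') (hf : ∀ x, eP (f x) = f' (eL x)) (hg : ∀ x, eQ (g x) = g' (eP x)) :
    homQuot h ≃ₗ[R] homQuot h' :=
  Submodule.Quotient.equiv _ _
    (eP.ofSubmodules (LinearMap.ker g) (LinearMap.ker g') (by
      ext y
      rw [Submodule.mem_map, LinearMap.mem_ker]
      constructor
      · rintro ⟨x, hx, rfl⟩
        rw [LinearEquiv.coe_coe, ← hg, LinearMap.mem_ker.1 hx, map_zero]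
      · intro hy
        refine ⟨eP.symm y, ?_, eP.apply_symm_apply y⟩
        rw [LinearMap.mem_ker]
        exact eQ.injective (by rw [hg, eP.apply_symm_apply, hy, map_zero])))
    (by
      ext y
      rw [Submodule.mem_map]
      constructor
      · rintro ⟨_, ⟨x, rfl⟩, rfl⟩
        exact ⟨eL x, Subtype.ext (hf x).symm⟩
      · rintro ⟨x, rfl⟩
        refine ⟨_, ⟨eL.symm x, rfl⟩, Subtype.ext ?_⟩
        exact (hf _).trans (congrArg f' (eL.apply_symm_apply x)))

end Algebra

variable {A : Type u} [CommRing A] {ι : Type} {c : ComplexShape ι}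
  (P : HomologicalComplex (ModuleCat.{u} A) c) {i j k : ι}

/-- The terms of a base changed complex. -/
noncomputable def bcX {B : Type u} [CommRing B] (φ : A →+* B) (j : ι) :
    letI := φ.toAlgebra
    (CohIII.bcCx φ P).X j ≃ₗ[B] B ⊗[A] P.X j :=
  letI := φ.toAlgebra
  LinearEquiv.refl B (B ⊗[A] P.X j)

theorem bcX_d {B : Type u} [CommRing B] (φ : A →+* B) (i j : ι) (x : (CohIII.bcCx φ P).X i) :
    letI := φ.toAlgebra
    bcX P φ j (((CohIII.bcCx φ P).d i j).hom x) = (P.d i j).hom.baseChange B (bcX P φ i x) :=
  rfl

/-- Homology of a base changed complex, in cycle form. -/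
noncomputable def bcH {B : Type u} [CommRing B] (φ : A →+* B) (hij : c.prev j = i)
    (hjk : c.next j = k) :
    letI := φ.toAlgebra
    (CohIII.bcCx φ P).homology j ≃ₗ[B] homQuot (baseChange_comp_zero B (d_comp_d P i j k)) :=
  letI := φ.toAlgebra
  (h0Equiv (CohIII.bcCx φ P) hij hjk).symm.trans
    (homCongr (d_comp_d (CohIII.bcCx φ P) i j k) (baseChange_comp_zero B (d_comp_d P i j k))
      (bcX P φ i) (bcX P φ j) (bcX P φ k) (bcX_d P φ i j) (bcX_d P φ j k))

theorem cancel_natural {B C : Type u} [CommRing B] [CommRing C] [Algebra A B] [Algebra B C]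
    [Algebra A C] [IsScalarTower A B C] {M N : Type u} [AddCommGroup M] [Module A M] [AddCommGroup N]
    [Module A N] (g : M →ₗ[A] N) (x : C ⊗[B] (B ⊗[A] M)) :
    TensorProduct.AlgebraTensorModule.cancelBaseChange A B C C N
        ((g.baseChange B).baseChange C x) =
      g.baseChange C (TensorProduct.AlgebraTensorModule.cancelBaseChange A B C C M x) := by
  induction x using TensorProduct.induction_on with
  | zero => simp
  | tmul a y =>
    induction y using TensorProduct.induction_on with
    | zero => simp
    | tmul b z => simp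
    | add y z hy hz => simp only [TensorProduct.tmul_add, map_add, hy, hz]
  | add x y hx hy => simp only [map_add, hx, hy]

theorem baseChange_congr {B C : Type u} [CommRing B] [CommRing C] [Algebra B C] {M N M' N' : Type u}
    [AddCommGroup M] [Module B M] [AddCommGroup N] [Module B N] [AddCommGroup M'] [Module B M']
    [AddCommGroup N'] [Module B N'] (g : M →ₗ[B] N) (g' : M' →ₗ[B] N') (eM : M ≃ₗ[B] M')
    (eN : N ≃ₗ[B] N') (h : ∀ x, eN (g x) = g' (eM x)) (x : C ⊗[B] M) :
    eN.baseChange B C N N' (g.baseChange C x) = g'.baseChange C (eM.baseChange B C M M' x) := by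
  induction x using TensorProduct.induction_on with
  | zero => simp
  | tmul a y => simp [h]
  | add x y hx hy => simp only [map_add, hx, hy]

theorem bcCx_finrank_comp {B C : Type u} [CommRing B] [Field C] (φ : A →+* B) (ψ : B →+* C)
    (hij : c.prev j = i) (hjk : c.next j = k) :
    Module.finrank C ((CohIII.bcCx ψ (CohIII.bcCx φ P)).homology j) =
      Module.finrank C ((CohIII.bcCx (ψ.comp φ) P).homology j) := by
  letI := φ.toAlgebra
  letI := ψ.toAlgebra
  letI := (ψ.comp φ).toAlgebra
  haveI : IsScalarTower A B C := IsScalarTower.of_algebraMap_eq fun _ => rfl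
  rw [(bcH (CohIII.bcCx φ P) ψ hij hjk).finrank_eq, (bcH P (ψ.comp φ) hij hjk).finrank_eq]
  refine ((homCongr
    (baseChange_comp_zero C (d_comp_d (CohIII.bcCx φ P) i j k))
    (baseChange_comp_zero C (baseChange_comp_zero B (d_comp_d P i j k)))
    ((bcX P φ i).baseChange B C _ _) ((bcX P φ j).baseChange B C _ _) ((bcX P φ k).baseChange B C _ _)
    (baseChange_congr _ _ _ _ (bcX_d P φ i j)) (baseChange_congr _ _ _ _ (bcX_d P φ j k))).trans
    (homCongr _ (baseChange_comp_zero C (d_comp_d P i j k))
      (TensorProduct.AlgebraTensorModule.cancelBaseChange A B C C (P.X i))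
      (TensorProduct.AlgebraTensorModule.cancelBaseChange A B C C (P.X j))
      (TensorProduct.AlgebraTensorModule.cancelBaseChange A B C C (P.X k))
      (cancel_natural _) (cancel_natural _))).finrank_eq

/-- Extending the ground field does not change the rank. -/
theorem bcCx_finrank_field_ext {K K' : Type u} [Field K] [Field K'] (φ : A →+* K) (ψ : K →+* K')
    (hij : c.prev j = i) (hjk : c.next j = k) :
    Module.finrank K' ((CohIII.bcCx (ψ.comp φ) P).homology j) =
      Module.finrank K ((CohIII.bcCx φ P).homology j) := by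
  rw [← bcCx_finrank_comp P φ ψ hij hjk]
  letI := φ.toAlgebra
  letI := ψ.toAlgebra
  rw [(bcH (CohIII.bcCx φ P) ψ hij hjk).finrank_eq,
    (homCongr
      (baseChange_comp_zero K' (d_comp_d (CohIII.bcCx φ P) i j k))
      (baseChange_comp_zero K' (baseChange_comp_zero K (d_comp_d P i j k)))
      ((bcX P φ i).baseChange K K' _ _) ((bcX P φ j).baseChange K K' _ _)
      ((bcX P φ k).baseChange K K' _ _)
      (baseChange_congr _ _ _ _ (bcX_d P φ i j))
      (baseChange_congr _ _ _ _ (bcX_d P φ j k))).finrank_eq,
    (bcH P φ hij hjk).finrank_eq]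
  have hc := bc_cycles_of_flat (R := K) (g := (P.d j k).hom.baseChange K) K'
  exact ((bcHomEquiv K' (baseChange_comp_zero K (d_comp_d P i j k)) hc.1 hc.2).finrank_eq).symm.trans
    Module.finrank_baseChange

theorem bcCx_finrank_of_epiLift {K : Type u} [Field K] (φ : A →+* K) (hij : c.prev j = i)
    (hjk : c.next j = k) [Module.Flat A (P.X k)] (hE : EpiLift (P.d j k).hom) :
    Module.finrank K ((CohIII.bcCx φ P).homology j) =
      @fibFin A _ K _ φ.toAlgebra (H0 P i j k) _ _ := by
  letI := φ.toAlgebra
  rw [(bcH P φ hij hjk).finrank_eq]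
  have hc := bc_cycles_of_epiLift (g := (P.d j k).hom) K hE
  exact ((bcHomEquiv K (d_comp_d P i j k) hc.1 hc.2).finrank_eq).symm

theorem dRank_eq_fibDim_of_epi (hij : c.prev j = i) (hjk : c.next j = k) [Module.Flat A (P.X k)]
    (hE : EpiLift (P.d j k).hom) (x : PrimeSpectrum A) :
    CohIII.dRank P j x = fibDim (H0 P i j k) x :=
  of_toAlgebra (A := A) (B := x.asIdeal.ResidueField)
    (fun inst => CohIII.dRank P j x = @fibFin A _ x.asIdeal.ResidueField _ inst (H0 P i j k) _ _)
    (bcCx_finrank_of_epiLift P _ hij hjk hE)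

theorem dRank_comap {A' : Type u} [CommRing A'] [Algebra A A'] (hij : c.prev j = i)
    (hjk : c.next j = k) (x' : PrimeSpectrum A') :
    CohIII.dRank (CohIII.bcCx (algebraMap A A') P) j x' =
      CohIII.dRank P j (PrimeSpectrum.comap (algebraMap A A') x') := by
  unfold CohIII.dRank
  let p : Ideal A := x'.asIdeal.comap (algebraMap A A')
  let ψ : p.ResidueField →+* x'.asIdeal.ResidueField :=
    Ideal.ResidueField.map p x'.asIdeal (algebraMap A A') rfl
  have e : (algebraMap A' x'.asIdeal.ResidueField).comp (algebraMap A A') =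
      ψ.comp (algebraMap A p.ResidueField) := RingHom.ext fun a => by
    simp only [ψ, RingHom.comp_apply, Ideal.ResidueField.map_algebraMap]
  rw [bcCx_finrank_comp P _ _ hij hjk, e]
  exact bcCx_finrank_field_ext P (algebraMap A p.ResidueField) ψ hij hjk

end Groth.Agent.H06FlatCx
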