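import Groth.Agent.H06FlatCx.HomologyClass
import Groth.Agent.H24Hilb.ObsAlgebra
import Mathlib

/-! Bounded above complexes of flat modules. -/

set_option autoImplicit false
set_option linter.unusedSectionVars false
set_option linter.style.haveILetI false
set_option backward.isDefEq.respectTransparency false

namespace Groth.Agent.H06FlatCx

open CategoryTheory CategoryTheory.Limits

universe u

variable {A : Type u} [CommRing A]

theorem exact_of_isZero_homology (F : CochainComplex (ModuleCat.{u} A) ℤ) (j : ℤ)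
    (h : IsZero (F.homology j)) :
    LinearMap.ker (F.d j (j + 1)).hom ≤ LinearMap.range (F.d (j - 1) j).hom := by
  intro x hx
  haveI := ModuleCat.subsingleton_of_isZero h
  exact (cls_eq_zero_iff F (show (ComplexShape.up ℤ).prev j = j - 1 by simp)
    (show (ComplexShape.up ℤ).next j = j + 1 by simp) ⟨x, hx⟩).1 (Subsingleton.elim _ _)

variable (F : CochainComplex (ModuleCat.{u} A) ℤ) (hF : ∀ i, Module.Flat A (F.X i))
  (hb : ∃ b : ℤ, ∀ i, b < i → IsZero (F.X i)) (d : ℤ)
  (hac : ∀ p, d < p → IsZero (F.homology p))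

include hF hb hac in
theorem flat_ker_d (j : ℤ) (hj : d ≤ j) : Module.Flat A (LinearMap.ker (F.d j (j + 1)).hom) := by
  obtain ⟨b, hb⟩ := hb
  suffices h : ∀ (n : ℕ) (j : ℤ), d ≤ j → b + 1 ≤ j + n → Module.Flat A (LinearMap.ker (F.d j (j + 1)).hom) from
    h (b + 1 - j).toNat j hj (by omega)
  intro n
  induction n with
  | zero =>
    intro j _ hbj
    haveI := ModuleCat.subsingleton_of_isZero (hb j (by omega))
    infer_instance
  | succ n ih =>
    intro j hj hbj
    haveI := ih (j + 1) (by omega) (by omega)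
    haveI := hF j
    have hm : ∀ x, (F.d j (j + 1)).hom x ∈ LinearMap.ker (F.d (j + 1) (j + 1 + 1)).hom := fun x => by
      rw [LinearMap.mem_ker, ← LinearMap.comp_apply, ← ModuleCat.hom_comp, F.d_comp_d]
      rfl
    have hs : Function.Surjective ((F.d j (j + 1)).hom.codRestrict _ hm) := fun y => by
      have hy := exact_of_isZero_homology F (j + 1) (hac _ (by omega)) y.2
      rw [show j + 1 - 1 = j by omega] at hy
      exact hy.imp fun x hx => Subtype.ext hx
    have := H24Hilb.flat_ker _ hs
    rwa [LinearMap.ker_codRestrict] at this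

include hF hb hac in
theorem tensor_exact (M : Type u) [AddCommGroup M] [Module A M] (j : ℤ) (hj : d < j) :
    LinearMap.ker ((F.d j (j + 1)).hom.rTensor M) ≤ LinearMap.range ((F.d (j - 1) j).hom.rTensor M) := by
  intro x hx
  have hm : ∀ (i : ℤ) x, (F.d i (i + 1)).hom x ∈ LinearMap.ker (F.d (i + 1) (i + 1 + 1)).hom := fun i x => by
    rw [LinearMap.mem_ker, ← LinearMap.comp_apply, ← ModuleCat.hom_comp, F.d_comp_d]
    rfl
  have hs : ∀ i, d ≤ i → Function.Surjective ((F.d i (i + 1)).hom.codRestrict _ (hm i)) := fun i hi y => by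
    have hy := exact_of_isZero_homology F (i + 1) (hac _ (by omega)) y.2
    rw [show i + 1 - 1 = i by omega] at hy
    exact hy.imp fun x hx => Subtype.ext hx
  haveI := flat_ker_d F hF hb d hac (j + 1 + 1) (by omega)
  haveI := hF (j + 1)
  have hinj : Function.Injective ((LinearMap.ker (F.d (j + 1) (j + 1 + 1)).hom).subtype.rTensor M) := by
    let π : (M →₀ A) →ₗ[A] M := Finsupp.linearCombination A id
    have hπ : Function.Surjective π := fun q => ⟨Finsupp.single q 1, by simp [π]⟩
    rw [← LinearMap.lTensor_inj_iff_rTensor_inj]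
    refine lTensor_injective_of_exact_of_exact_of_rTensor_injective (R := A)
      (M₁ := ↥(LinearMap.ker π)) (M₂ := M →₀ A) (M₃ := M)
      (N₃ := LinearMap.ker (F.d (j + 1 + 1) (j + 1 + 1 + 1)).hom)
      (f₁ := (LinearMap.ker π).subtype) (f₂ := π)
      (g₂ := (F.d (j + 1) (j + 1 + 1)).hom.codRestrict _ (hm (j + 1)))
      π.exact_subtype_ker_map hπ ?_ (hs (j + 1) (by omega))
      (Module.Flat.rTensor_preserves_injective_linearMap _ (LinearMap.ker π).subtype_injective)
      (Module.Flat.lTensor_preserves_injective_linearMap _ (Submodule.injective_subtype _))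
    rw [LinearMap.exact_iff, LinearMap.ker_codRestrict, Submodule.range_subtype]
  have h0 : ((F.d j (j + 1)).hom.codRestrict _ (hm j)).rTensor M x = 0 := by
    apply hinj
    rw [map_zero, ← LinearMap.comp_apply, ← LinearMap.rTensor_comp, LinearMap.subtype_comp_codRestrict]
    exact LinearMap.mem_ker.1 hx
  have hex := rTensor_exact M (f := (LinearMap.ker ((F.d j (j + 1)).hom.codRestrict _ (hm j))).subtype)
    (g := (F.d j (j + 1)).hom.codRestrict _ (hm j)) (LinearMap.exact_subtype_ker_map _) (hs j hj.le)
  obtain ⟨y, hy⟩ := (hex x).1 h0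
  have hle : ∀ y : LinearMap.ker ((F.d j (j + 1)).hom.codRestrict _ (hm j)),
      ∃ w, (F.d (j - 1) j).hom w = y := fun y => by
    refine exact_of_isZero_homology F j (hac _ hj) ?_
    exact (LinearMap.ker_codRestrict _ _ _).le y.2
  rw [← hy]
  clear hy hx h0
  induction y using TensorProduct.induction_on with
  | zero => simp
  | tmul a m =>
    obtain ⟨w, hw⟩ := hle a
    exact ⟨w ⊗ₜ m, by simp [LinearMap.rTensor_tmul, hw]⟩
  | add a b ha hb => rw [map_add]; exact add_mem ha hb

theorem quasiIso_iff_acyclic_cone {C : Type*} [Category C] [Abelian C] {K L : CochainComplex C ℤ}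
    (φ : K ⟶ L) : QuasiIso φ ↔ (CochainComplex.mappingCone φ).Acyclic := by
  rw [← HomotopyCategory.quotient_obj_mem_subcategoryAcyclic_iff_acyclic]
  refine Iff.trans ?_ ((HomotopyCategory.subcategoryAcyclic C).trW_iff_of_distinguished _
    (HomotopyCategory.mappingCone_triangleh_distinguished φ))
  rw [← HomotopyCategory.quasiIso_eq_trW_subcategoryAcyclic]
  show _ ↔ HomotopyCategory.quasiIso C _ ((HomotopyCategory.quotient C _).map φ)
  rw [HomotopyCategory.quotient_map_mem_quasiIso_iff, HomologicalComplex.mem_quasiIso_iff]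

end Groth.Agent.H06FlatCx
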