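import Groth.Agent.H06FlatCx.BCHomology
import Mathlib

/-! Exactness of all `H_q(P ⊗ -)` in low degrees is flatness of the homology. -/

set_option autoImplicit false
set_option linter.unusedSectionVars false
set_option linter.style.haveILetI false
set_option backward.isDefEq.respectTransparency false

namespace Groth.Agent.H06FlatCx

open CategoryTheory CategoryTheory.Limits MonoidalCategory
open scoped TensorProduct

universe u

variable {A : Type u} [CommRing A] (P : ChainComplex (ModuleCat.{u} A) ℤ)
  (hP : ∀ i, Module.Flat A (P.X i)) (i₀ : ℤ) (hb : ∀ i < i₀, IsZero (P.X i))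

/-- Homology in degree `q`. -/
abbrev HH (q : ℤ) : Type u := H0 P (q + 1) q (q - 1)

theorem finitePresentation_HH (q : ℤ)
    (h : Module.FinitePresentation A (CohIII.T P q (ModuleCat.of A A))) :
    Module.FinitePresentation A (HH P q) := by
  haveI : Module.FinitePresentation A ((CohIII.TFun P q).obj (ModuleCat.of A A)) := h
  exact Module.FinitePresentation.of_equiv (tSelfEquiv P (down_prev q) (down_next q)).symm

include hb in
theorem subsingleton_TFun_of_lt (q : ℤ) (hq : q < i₀) (M : ModuleCat.{u} A) :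
    Subsingleton ((CohIII.TFun P q).obj M) := by
  haveI := ModuleCat.subsingleton_of_isZero (hb q hq)
  haveI : Subsingleton (LinearMap.ker ((P.d q (q - 1)).hom.rTensor M)) := by
    haveI : Subsingleton (P.X q ⊗[A] M) := inferInstance
    infer_instance
  exact (tcls_surjective P (down_next q) M).subsingleton

include hP hb in
theorem preserves_of_flat (p : ℤ) (h : ∀ q ≤ p, Module.Flat A (HH P q)) :
    ∀ q ≤ p, (CohIII.TFun P q).PreservesMonomorphisms ∧ (CohIII.TFun P q).PreservesEpimorphisms := by
  suffices hs : ∀ (n : ℕ) (q : ℤ), q ≤ p → q < i₀ + n →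
      (CohIII.TFun P q).PreservesMonomorphisms ∧ (CohIII.TFun P q).PreservesEpimorphisms from
    fun q hq => hs (q - i₀ + 1).toNat q hq (by omega)
  intro n
  induction n with
  | zero =>
    intro q _ hq
    exact ⟨preservesMono_of_forall_subsingleton P q (subsingleton_TFun_of_lt P i₀ hb q (by omega)),
      preservesEpi_of_forall_subsingleton P q (subsingleton_TFun_of_lt P i₀ hb q (by omega))⟩
  | succ n ih =>
    intro q hq hlt
    have he := (epi_iff_mono_pred P hP (show q - 1 + 1 = q by omega)).2 (ih (q - 1) (by omega) (by omega)).1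
    haveI := hP (q - 1)
    exact ⟨(flat_h0_iff_mono P (down_prev q) (down_next q) he).2 (h q hq), he⟩

include hP in
theorem flat_of_preserves (q : ℤ) (hm : (CohIII.TFun P q).PreservesMonomorphisms)
    (he : (CohIII.TFun P q).PreservesEpimorphisms) : Module.Flat A (HH P q) := by
  haveI := hP (q - 1)
  exact (flat_h0_iff_mono P (down_prev q) (down_next q) he).1 hm

include hP in
theorem dRank_eq_fibDim (q : ℤ) (he : (CohIII.TFun P q).PreservesEpimorphisms) (x : PrimeSpectrum A) :
    CohIII.dRank P q x = fibDim (HH P q) x := by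
  haveI := hP (q - 1)
  exact dRank_eq_fibDim_of_epi P (down_prev q) (down_next q)
    ((preservesEpi_iff_epiLift P (down_prev q) (down_next q)).1 he) x

include hP hb in
theorem preserves_of_dRank [IsLocalRing A] [IsReduced A] (hfin : ∀ n, Module.Finite A (HH P n)) (p : ℤ)
    (h : ∀ x : PrimeSpectrum A, x.asIdeal ∈ minimalPrimes A →
      ∀ q ≤ p, CohIII.dRank P q x = CohIII.dRank P q (IsLocalRing.closedPoint A)) :
    ∀ q ≤ p, (CohIII.TFun P q).PreservesMonomorphisms ∧ (CohIII.TFun P q).PreservesEpimorphisms := by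
  suffices hs : ∀ (n : ℕ) (q : ℤ), q ≤ p → q < i₀ + n →
      (CohIII.TFun P q).PreservesMonomorphisms ∧ (CohIII.TFun P q).PreservesEpimorphisms from
    fun q hq => hs (q - i₀ + 1).toNat q hq (by omega)
  intro n
  induction n with
  | zero =>
    intro q _ hq
    exact ⟨preservesMono_of_forall_subsingleton P q (subsingleton_TFun_of_lt P i₀ hb q (by omega)),
      preservesEpi_of_forall_subsingleton P q (subsingleton_TFun_of_lt P i₀ hb q (by omega))⟩
  | succ n ih =>
    intro q hq hlt
    have he := (epi_iff_mono_pred P hP (show q - 1 + 1 = q by omega)).2 (ih (q - 1) (by omega) (by omega)).1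
    haveI := hP (q - 1)
    haveI := hfin q
    haveI : Module.Free A (HH P q) := free_of_fibDim_eq (HH P q) fun x hx => by
      rw [← dRank_eq_fibDim P hP q he, ← dRank_eq_fibDim P hP q he]
      exact h x hx q hq
    exact ⟨(flat_h0_iff_mono P (down_prev q) (down_next q) he).2 inferInstance, he⟩

/-- Homology commutes with flat base change. -/
noncomputable def hhBaseChange (B : Type u) [CommRing B] (φ : A →+* B)
    (hφ : φ.Flat) (q : ℤ) :
    letI := φ.toAlgebra
    B ⊗[A] HH P q ≃ₗ[B] HH (CohIII.bcCx φ P) q :=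
  letI := φ.toAlgebra
  haveI : Module.Flat A B := hφ
  (bcHomEquiv B (d_comp_d P (q + 1) q (q - 1)) (bc_cycles_of_flat B).1 (bc_cycles_of_flat B).2).trans
    ((bcH P φ (down_prev q) (down_next q)).symm.trans
      (h0Equiv (CohIII.bcCx φ P) (down_prev q) (down_next q)).symm)

theorem flat_HH_bcCx (B : Type u) [CommRing B] [inst : Algebra A B] [hfl : Module.Flat A B] (q : ℤ)
    (h : Module.Flat B (B ⊗[A] HH P q)) : Module.Flat B (HH (CohIII.bcCx (algebraMap A B) P) q) := by
  have hφ : (algebraMap A B).Flat := RingHom.flat_algebraMap_iff.2 hfl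
  revert h
  refine of_toAlgebra (A := A) (B := B) (fun i => (@FlatBC A _ B _ i (HH P q) _ _ →
    Module.Flat B (HH (CohIII.bcCx (algebraMap A B) P) q))) ?_
  intro h
  letI := (algebraMap A B).toAlgebra
  haveI : Module.Flat B (B ⊗[A] HH P q) := h
  exact Module.Flat.of_linearEquiv
    (hhBaseChange P B (algebraMap A B) hφ q).symm

include hb in
theorem isZero_bcCx (B : Type u) [CommRing B] (φ : A →+* B) (i : ℤ) (hi : i < i₀) :
    IsZero ((CohIII.bcCx φ P).X i) :=
  (ModuleCat.extendScalars φ).map_isZero (hb i hi)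

theorem exists_away_flat [IsDomain A] (M : Type u) [AddCommGroup M] [Module A M]
    [Module.FinitePresentation A M] :
    ∃ f : A, f ≠ 0 ∧ ∀ g : A, f ∣ g → Module.Flat (Localization.Away g) (Localization.Away g ⊗[A] M) := by
  have h : (⟨⊥, Ideal.isPrime_bot⟩ : PrimeSpectrum A) ∈ Module.freeLocus A M := by
    haveI : IsLocalization.AtPrime (FractionRing A) (⊥ : Ideal A) := by
      show IsLocalization _ _
      rw [Ideal.primeCompl_bot]
      infer_instance
    rw [Module.mem_freeLocus_iff_tensor ⟨⊥, Ideal.isPrime_bot⟩ (FractionRing A)]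
    infer_instance
  obtain ⟨_, ⟨f, rfl⟩, hfm, hfs⟩ :=
    PrimeSpectrum.isTopologicalBasis_basic_opens.exists_subset_of_mem_open h Module.isOpen_freeLocus
  refine ⟨f, fun hf => hfm (by simp [hf]), fun g hg => ?_⟩
  have hsub : (PrimeSpectrum.basicOpen g : Set (PrimeSpectrum A)) ⊆ Module.freeLocus A M := by
    refine Set.Subset.trans ?_ hfs
    obtain ⟨t, rfl⟩ := hg
    exact PrimeSpectrum.basicOpen_mul_le_left f t
  haveI := Module.basicOpen_subset_freeLocus_iff.1 hsub
  exact Module.Flat.of_linearEquiv (LocalizedModule.equivTensorProduct (Submonoid.powers g) M).symm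

theorem exists_away_preserves [IsDomain A] (hP : ∀ i, Module.Flat A (P.X i))
    (hb : ∀ i < i₀, IsZero (P.X i))
    (hfp : ∀ n : ℤ, Module.FinitePresentation A (HH P n)) (N : ℤ) :
    ∃ f : A, f ≠ 0 ∧ ∀ p ≤ N,
      (CohIII.TFun (CohIII.bcCx (algebraMap A (Localization.Away f)) P) p).PreservesMonomorphisms ∧
        (CohIII.TFun (CohIII.bcCx (algebraMap A (Localization.Away f)) P) p).PreservesEpimorphisms := by
  choose g hg0 hg using fun q => haveI := hfp q; exists_away_flat (A := A) (HH P q)
  refine ⟨∏ q ∈ Finset.Icc i₀ N, g q, Finset.prod_ne_zero_iff.2 fun q _ => hg0 q, fun p hp => ?_⟩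
  refine preserves_of_flat _ (fun i => ?_) i₀ (isZero_bcCx P i₀ hb _ _) p (fun q hq => ?_) p le_rfl
  · haveI := hP i
    exact bcCx_flat_X P _
  · by_cases hlt : q < i₀
    · haveI := ModuleCat.subsingleton_of_isZero
        (isZero_bcCx P i₀ hb (Localization.Away (∏ q ∈ Finset.Icc i₀ N, g q))
          (algebraMap A _) q hlt)
      infer_instance
    · exact flat_HH_bcCx P _ q (hg q _ (Finset.dvd_prod_of_mem g (Finset.mem_Icc.2 ⟨by omega, by omega⟩)))

end Groth.Agent.H06FlatCx
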