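import Mathlib

/-!
# Linear functors commuting with filtered colimits commute with localization
-/

set_option autoImplicit false
set_option linter.style.haveILetI false
set_option backward.isDefEq.respectTransparency false
universe u

open CategoryTheory CategoryTheory.Limits

namespace Groth.Agent.H06FlatCx

variable {A : Type u} [CommRing A] (S : Submonoid A)

/-- The filtered category of denominators. -/
structure Den where
  /-- the denominator -/
  val : S

instance : Category (Den S) where
  Hom s t := {u : S // s.val * u = t.val}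
  id s := ⟨1, mul_one _⟩
  comp {s t r} a b := ⟨a.1 * b.1, by rw [← mul_assoc, a.2, b.2]⟩
  id_comp a := Subtype.ext (one_mul _)
  comp_id a := Subtype.ext (mul_one _)
  assoc a b c := Subtype.ext (mul_assoc _ _ _)

instance : Nonempty (Den S) := ⟨⟨1⟩⟩

instance : IsFiltered (Den S) where
  toIsFilteredOrEmpty :=
    { cocone_objs := fun s t => ⟨⟨s.val * t.val⟩, ⟨t.val, rfl⟩, ⟨s.val, mul_comm _ _⟩, trivial⟩
      cocone_maps := fun {s t} a b => ⟨⟨t.val * s.val⟩, ⟨s.val, rfl⟩, Subtype.ext (by
        show a.1 * s.val = b.1 * s.val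
        rw [mul_comm, a.2, mul_comm b.1, b.2])⟩ }

variable (M : ModuleCat.{u} A)

/-- The multiplication diagram computing the localization. -/
noncomputable def denDiagram : Den S ⥤ ModuleCat.{u} A where
  obj _ := M
  map a := (a.1 : A) • 𝟙 M
  map_id s := by
    show ((1 : S) : A) • 𝟙 M = 𝟙 M
    simp
  map_comp {s t r} a b := by
    show ((a.1 * b.1 : S) : A) • 𝟙 M = _
    rw [Linear.smul_comp, Category.id_comp, smul_smul]
    rfl

/-- Division by a denominator. -/
noncomputable def mkHom (s : S) : M ⟶ ModuleCat.of A (LocalizedModule S M) :=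
  ModuleCat.ofHom
    { toFun := fun m => IsLocalizedModule.mk' (LocalizedModule.mkLinearMap S M) m s
      map_add' := fun a b => IsLocalizedModule.mk'_add _ a b s
      map_smul' := fun a m => IsLocalizedModule.mk'_smul _ a m s }

theorem mkHom_apply (s : S) (m : M) : (mkHom S M s).hom m = LocalizedModule.mk m s :=
  (IsLocalizedModule.mk_eq_mk' s m).symm

theorem mkHom_one : mkHom S M 1 = ModuleCat.ofHom (LocalizedModule.mkLinearMap S M) :=
  ModuleCat.hom_ext (LinearMap.ext fun m => mkHom_apply S M 1 m)

theorem smul_mkHom (s : S) : (s : A) • mkHom S M s = mkHom S M 1 := by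
  apply ModuleCat.hom_ext
  ext m
  show (s : A) • (mkHom S M s).hom m = (mkHom S M 1).hom m
  rw [mkHom_apply, mkHom_apply, LocalizedModule.smul'_mk, ← Submonoid.smul_def, LocalizedModule.mk_cancel]


/-- The localization as a cocone. -/
noncomputable def denCocone : Cocone (denDiagram S M) where
  pt := ModuleCat.of A (LocalizedModule S M)
  ι :=
    { app := fun s => mkHom S M s.val
      naturality := fun {s t} a => by
        show ((a.1 : A) • 𝟙 M) ≫ mkHom S M t.val = mkHom S M s.val ≫ 𝟙 _
        apply ModuleCat.hom_ext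
        ext m
        show (mkHom S M t.val).hom ((a.1 : A) • m) = (mkHom S M s.val).hom m
        rw [mkHom_apply, mkHom_apply]
        obtain ⟨u, hu⟩ := a
        rw [LocalizedModule.mk_eq]
        refine ⟨1, ?_⟩
        simp only [one_smul]
        rw [← hu]
        simp only [Submonoid.smul_def, Submonoid.coe_mul, smul_smul] }

/-- The localization is the colimit. -/
noncomputable def denIsColimit : IsColimit (denCocone S M) := by
  refine isColimitOfReflects (CategoryTheory.forget (ModuleCat.{u} A)) (Types.FilteredColimit.isColimitOf _ _ ?_ ?_)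
  · intro x
    obtain ⟨⟨m, s⟩, rfl⟩ := IsLocalizedModule.mk'_surjective S (LocalizedModule.mkLinearMap S M) x
    exact ⟨⟨s⟩, m, rfl⟩
  · intro s t x y hxy
    change (mkHom S M s.val).hom x = (mkHom S M t.val).hom y at hxy
    rw [mkHom_apply, mkHom_apply] at hxy
    obtain ⟨c, hc⟩ := LocalizedModule.mk_eq.mp hxy
    refine ⟨⟨s.val * t.val * c⟩, ⟨t.val * c, (mul_assoc _ _ _).symm⟩,
      ⟨s.val * c, by rw [← mul_assoc, mul_comm t.val]⟩, ?_⟩
    show ((t.val * c : S) : A) • x = ((s.val * c : S) : A) • y
    rw [← Submonoid.smul_def, ← Submonoid.smul_def, mul_comm t.val, mul_comm s.val, mul_smul, mul_smul]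
    exact hc

variable (T : ModuleCat.{u} A ⥤ ModuleCat.{u} A) [T.Additive] [T.Linear A]
  (hT : ∀ (J : Type u) [SmallCategory J] [IsFiltered J], PreservesColimitsOfShape J T)

include hT in
theorem isLocalizedModule_map : IsLocalizedModule S (T.map (ModuleCat.ofHom (LocalizedModule.mkLinearMap S M) :
      M ⟶ ModuleCat.of A (LocalizedModule S M))).hom := by
  haveI := hT (Den S)
  have hc := isColimitOfPreserves (CategoryTheory.forget (ModuleCat.{u} A)) (isColimitOfPreserves T (denIsColimit S M))
  have hs : ∀ s : Den S, (s.val : A) • T.map (mkHom S M s.val) = T.map (mkHom S M 1) := fun s => by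
    rw [← T.map_smul, smul_mkHom]
  rw [← mkHom_one]
  refine ⟨fun s => ?_, fun y => ?_, fun {x y} hxy => ?_⟩
  · have hb : Function.Bijective fun z : LocalizedModule S M => (s : A) • z :=
      (Module.End.isUnit_iff _).mp (IsLocalizedModule.map_units (LocalizedModule.mkLinearMap S M) s)
    let φ : ModuleCat.of A (LocalizedModule S M) ⟶ ModuleCat.of A (LocalizedModule S M) := (s : A) • 𝟙 _
    haveI : IsIso φ := (ConcreteCategory.isIso_iff_bijective φ).mpr hb
    rw [Module.End.isUnit_iff]
    have := (ConcreteCategory.isIso_iff_bijective (T.map φ)).mp inferInstance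
    rw [show T.map φ = (s : A) • 𝟙 _ by rw [T.map_smul, T.map_id]] at this
    exact this
  · obtain ⟨j, z, hz⟩ := Types.jointly_surjective _ hc y
    refine ⟨(z, j.val), ?_⟩
    rw [← hz, ← hs j]
    rfl
  · obtain ⟨k, a, b, hab⟩ := (Types.FilteredColimit.isColimit_eq_iff _ hc).mp hxy
    refine ⟨k.val, ?_⟩
    have ha : a.1 = k.val := by simpa using a.2
    have hb : b.1 = k.val := by simpa using b.2
    change (T.map ((a.1 : A) • 𝟙 M)).hom x = (T.map ((b.1 : A) • 𝟙 M)).hom y at hab
    rw [ha, hb, T.map_smul, T.map_id] at hab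
    exact hab

end Groth.Agent.H06FlatCx
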