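import Groth.Agent.H06FlatCx.FlatH0
import Groth.Agent.H06FlatCx.Artinian
import Mathlib

/-! Generic constancy of the ranks of the homology of a bounded below flat complex. -/

set_option autoImplicit false
set_option linter.unusedSectionVars false
set_option linter.style.haveILetI false
set_option backward.isDefEq.respectTransparency false

namespace Groth.Agent.H06FlatCx

open CategoryTheory CategoryTheory.Limits MonoidalCategory
open scoped TensorProduct

universe u

variable {A : Type u} [CommRing A]

section Les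

variable (P : ChainComplex (ModuleCat.{u} A) ℤ)

/-- A short exact sequence of coefficients, tensored. -/
noncomputable def tensorSeq (S : ShortComplex (ModuleCat.{u} A)) :
    ShortComplex (ChainComplex (ModuleCat.{u} A) ℤ) :=
  ShortComplex.mk (CohIII.tensorMap P S.f) (CohIII.tensorMap P S.g) (by
    ext i : 1
    refine ModuleCat.hom_ext ?_
    show S.g.hom.lTensor (P.X i) ∘ₗ S.f.hom.lTensor (P.X i) = 0
    rw [← LinearMap.lTensor_comp, ← ModuleCat.hom_comp, S.zero]
    simp)

theorem tensorSeq_shortExact (hP : ∀ i, Module.Flat A (P.X i)) (S : ShortComplex (ModuleCat.{u} A))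
    (hS : S.ShortExact) : (tensorSeq P S).ShortExact := by
  refine HomologicalComplex.shortExact_of_degreewise_shortExact _ fun i => ?_
  haveI := hP i
  exact
    { exact := (ShortComplex.ShortExact.moduleCat_exact_iff_function_exact _).mpr
        (lTensor_exact (P.X i) ((ShortComplex.ShortExact.moduleCat_exact_iff_function_exact S).1 hS.exact)
          hS.moduleCat_surjective_g)
      mono_f := (ModuleCat.mono_iff_injective _).mpr
        (Module.Flat.lTensor_preserves_injective_linearMap _ hS.moduleCat_injective_f)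
      epi_g := (ModuleCat.epi_iff_surjective _).mpr (LinearMap.lTensor_surjective _ hS.moduleCat_surjective_g) }

theorem exists_delta (hP : ∀ i, Module.Flat A (P.X i)) (S : ShortComplex (ModuleCat.{u} A))
    (hS : S.ShortExact) (q : ℤ) :
    ∃ δ : (CohIII.TFun P q).obj S.X₃ →ₗ[A] (CohIII.TFun P (q - 1)).obj S.X₁,
      Function.Exact ((CohIII.TFun P q).map S.g).hom δ := by
  have h := tensorSeq_shortExact P hP S hS
  exact ⟨(h.δ q (q - 1) (by simp)).hom,
    (ShortComplex.ShortExact.moduleCat_exact_iff_function_exact _).1 (h.homology_exact₃ q (q - 1) (by simp))⟩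

variable [IsNoetherianRing A] (hP : ∀ i, Module.Flat A (P.X i)) (i₀ : ℤ) (hb : ∀ i < i₀, IsZero (P.X i))
  (hfg : ∀ n : ℤ, Module.Finite A (CohIII.T P n (ModuleCat.of A A)))

theorem finite_of_exact {X Y Z : Type u} [AddCommGroup X] [Module A X] [AddCommGroup Y] [Module A Y]
    [AddCommGroup Z] [Module A Z] (f : X →ₗ[A] Y) (g : Y →ₗ[A] Z) (h : Function.Exact f g)
    [Module.Finite A X] [Module.Finite A Z] : Module.Finite A Y := by
  haveI : IsNoetherian A X := isNoetherian_of_isNoetherianRing_of_finite A X
  haveI : IsNoetherian A Z := isNoetherian_of_isNoetherianRing_of_finite A Z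
  haveI : IsNoetherian A Y := isNoetherian_of_range_eq_ker f g (h.linearMap_ker_eq).symm
  infer_instance

include hP hfg in
theorem finite_TFun_free (q : ℤ) (n : ℕ) :
    Module.Finite A ((CohIII.TFun P q).obj (ModuleCat.of A (Fin n → A))) := by
  haveI : Module.Finite A ((CohIII.TFun P q).obj (ModuleCat.of A A)) := hfg q
  haveI : Module.Finite A (HH P q) := Module.Finite.equiv (tSelfEquiv P (down_prev q) (down_next q)).symm
  haveI := hP (q - 1)
  haveI : Module.Flat A (ModuleCat.of A (Fin n → A)) := inferInstanceAs (Module.Flat A (Fin n → A))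
  haveI : Module.Finite A (ModuleCat.of A (Fin n → A)) := inferInstanceAs (Module.Finite A (Fin n → A))
  exact Module.Finite.equiv (tEquivOfFlat P (down_prev q) (down_next q) (ModuleCat.of A (Fin n → A)))

include hP hb hfg in
theorem finite_TFun (q : ℤ) (M : ModuleCat.{u} A) [Module.Finite A M] :
    Module.Finite A ((CohIII.TFun P q).obj M) := by
  suffices hs : ∀ (m : ℕ) (q : ℤ) (M : ModuleCat.{u} A) [Module.Finite A M], q < i₀ + m →
      Module.Finite A ((CohIII.TFun P q).obj M) from hs (q - i₀ + 1).toNat q M (by omega)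
  intro m
  induction m with
  | zero =>
    intro q M _ hq
    haveI := subsingleton_TFun_of_lt P i₀ hb q (by omega) M
    infer_instance
  | succ m ih =>
    intro q M _ hq
    obtain ⟨n, g, hg⟩ := Module.Finite.exists_fin' A M
    let S : ShortComplex (ModuleCat.{u} A) := ShortComplex.mk (ModuleCat.ofHom (LinearMap.ker g).subtype)
      (ModuleCat.ofHom g) (ModuleCat.hom_ext g.comp_ker_subtype)
    have hS : S.ShortExact :=
      { exact := (ShortComplex.ShortExact.moduleCat_exact_iff_function_exact _).mpr g.exact_subtype_ker_map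
        mono_f := (ModuleCat.mono_iff_injective _).mpr Subtype.val_injective
        epi_g := (ModuleCat.epi_iff_surjective _).mpr hg }
    haveI : Module.Finite A S.X₁ :=
      haveI : IsNoetherian A (Fin n → A) := isNoetherian_of_isNoetherianRing_of_finite A _
      inferInstanceAs (Module.Finite A (LinearMap.ker g))
    obtain ⟨δ, hδ⟩ := exists_delta P hP S hS q
    haveI : Module.Finite A ((CohIII.TFun P q).obj S.X₂) := finite_TFun_free P hP hfg q n
    haveI := ih (q - 1) S.X₁ (by omega)
    exact finite_of_exact _ _ hδ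

theorem finite_of_surjective_of_le {X Y : Type u} [AddCommGroup X] [Module A X] [AddCommGroup Y] [Module A Y]
    (S : Submodule A X) (h : Module.Finite A (X ⧸ S)) (f : X →ₗ[A] Y) (hf : Function.Surjective f)
    (hS : S ≤ LinearMap.ker f) : Module.Finite A Y :=
  Module.Finite.of_surjective (S.liftQ f hS) fun y => (hf y).elim fun x hx => ⟨Submodule.Quotient.mk x, hx⟩

theorem finite_quot_of_surjective {B X K : Type u} [CommRing B] [Algebra A B] [AddCommGroup X] [Module A X]
    [AddCommGroup K] [Module A K] [Module B K] [IsScalarTower A B K]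
    (S : Submodule A X) (h : Module.Finite A (X ⧸ S)) (R : Submodule B K) (f : X →ₗ[A] K)
    (hf : Function.Surjective f) (hS : ∀ x ∈ S, f x ∈ R) : Module.Finite B (K ⧸ R) := by
  haveI : Module.Finite A (K ⧸ R) := finite_of_surjective_of_le S h (R.mkQ.restrictScalars A ∘ₗ f)
    (fun y => by
      obtain ⟨z, rfl⟩ := R.mkQ_surjective y
      obtain ⟨x, rfl⟩ := hf z
      exact ⟨x, rfl⟩)
    (fun x hx => (Submodule.Quotient.mk_eq_zero R).2 (hS x hx))
  exact Module.Finite.of_restrictScalars_finite A B _

theorem finite_homQuot_baseChange (B : Type u) [CommRing B] [Algebra A B] {L X Z : Type u} [AddCommGroup L]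
    [Module A L] [AddCommGroup X] [Module A X] [AddCommGroup Z] [Module A Z] {f : L →ₗ[A] X} {g : X →ₗ[A] Z}
    (h : g ∘ₗ f = 0) (hA : g.lTensor B ∘ₗ f.lTensor B = 0) (hfin : Module.Finite A (homQuot hA)) :
    Module.Finite B (homQuot (baseChange_comp_zero B h)) := by
  have hB := baseChange_comp_zero B h
  let ι : LinearMap.ker (g.lTensor B) →ₗ[A] LinearMap.ker (g.baseChange B) :=
    { toFun := fun x => ⟨x.1, x.2⟩
      map_add' := fun _ _ => rfl
      map_smul' := fun _ _ => rfl }
  exact finite_quot_of_surjective (LinearMap.range (toKer hA)) hfin (LinearMap.range (toKer hB)) ι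
    (fun z => ⟨⟨z.1, z.2⟩, rfl⟩) (by
      rintro _ ⟨w, rfl⟩
      exact ⟨w, rfl⟩)

include hP hb hfg in
theorem finite_HH_bcCx (B : Type u) [CommRing B] [inst : Algebra A B] [hfin : Module.Finite A B] (q : ℤ) :
    Module.Finite B (HH (CohIII.bcCx (algebraMap A B) P) q) := by
  have hφ : (algebraMap A B).Finite := RingHom.finite_algebraMap.2 hfin
  clear hfin
  generalize hψ : algebraMap A B = ψ at hφ ⊢
  clear hψ inst
  letI := ψ.toAlgebra
  haveI : Module.Finite A B := hφ
  haveI : Module.Finite A (ModuleCat.of A B) := inferInstanceAs (Module.Finite A B)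
  haveI := finite_TFun P hP i₀ hb hfg q (ModuleCat.of A B)
  have hA : ((P.d q (q - 1)).hom.lTensor B) ∘ₗ ((P.d (q + 1) q).hom.lTensor B) = 0 := by
    rw [← LinearMap.lTensor_comp, d_comp_d, LinearMap.lTensor_zero]
  let e : (CohIII.TFun P q).obj (ModuleCat.of A B) ≃ₗ[A] homQuot hA :=
    (h0Equiv (CohIII.tensorObj P (ModuleCat.of A B)) (down_prev q) (down_next q)).symm.trans
      (homCongr _ hA (TensorProduct.comm A (P.X (q + 1)) B) (TensorProduct.comm A (P.X q) B)
        (TensorProduct.comm A (P.X (q - 1)) B)
        (fun x => by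
          show TensorProduct.comm A _ B ((P.d (q + 1) q).hom.rTensor B x) = _
          induction x using TensorProduct.induction_on with
          | zero => simp
          | tmul a b => rfl
          | add a b ha hb => simp only [map_add, ha, hb])
        (fun x => by
          show TensorProduct.comm A _ B ((P.d q (q - 1)).hom.rTensor B x) = _
          induction x using TensorProduct.induction_on with
          | zero => simp
          | tmul a b => rfl
          | add a b ha hb => simp only [map_add, ha, hb]))
  haveI : Module.Finite A (homQuot hA) := Module.Finite.equiv e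
  have hB := baseChange_comp_zero B (d_comp_d P (q + 1) q (q - 1))
  haveI : Module.Finite B (homQuot hB) :=
    finite_homQuot_baseChange B (d_comp_d P (q + 1) q (q - 1)) hA inferInstance
  exact Module.Finite.equiv ((bcH P ψ (down_prev q) (down_next q)).symm.trans
      (h0Equiv (CohIII.bcCx ψ P) (down_prev q) (down_next q)).symm)

include hP hb hfg in
theorem exists_dense_open (N : ℤ) :
    ∃ U : Set (PrimeSpectrum A), IsOpen U ∧ Dense U ∧
      ∀ p ≤ N, IsLocallyConstant (fun x : U => CohIII.dRank P p x) := by
  classical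
  have hfin := minimalPrimes.finite_of_isNoetherianRing A
  have key : ∀ 𝔭 : minimalPrimes A, ∃ h : A, h ∉ 𝔭.1 ∧
      (∀ y : PrimeSpectrum A, h ∉ y.asIdeal → 𝔭.1 ≤ y.asIdeal) ∧
      ∀ p ≤ N, ∀ y y' : PrimeSpectrum A, h ∉ y.asIdeal → h ∉ y'.asIdeal →
        CohIII.dRank P p y = CohIII.dRank P p y' := by
    rintro ⟨𝔭, hp⟩
    haveI := hp.1.1
    let B := A ⧸ 𝔭
    let PB := CohIII.bcCx (algebraMap A B) P
    have hPB : ∀ i, Module.Flat B (PB.X i) := fun i => by
      haveI := hP i
      exact bcCx_flat_X P _
    have hfpB : ∀ n : ℤ, Module.FinitePresentation B (HH PB n) := fun n => by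
      haveI := finite_HH_bcCx P hP i₀ hb hfg B n
      exact Module.finitePresentation_of_finite B _
    obtain ⟨f, hf, hfN⟩ := exists_away_preserves PB i₀ hPB (isZero_bcCx P i₀ hb _ _) hfpB N
    obtain ⟨f, rfl⟩ := Ideal.Quotient.mk_surjective f
    have hothers : ∀ q ∈ hfin.toFinset.erase 𝔭, ∃ g ∈ q, g ∉ 𝔭 := fun q hq => by
      obtain ⟨hne, hq⟩ := Finset.mem_erase.1 hq
      by_contra hcon
      push Not at hcon
      exact hne (le_antisymm hcon (hp.2 (hfin.mem_toFinset.1 hq).1 hcon))
    choose! g hgq hgp using hothers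
    have hfp : f ∉ 𝔭 := fun h => hf (Ideal.Quotient.eq_zero_iff_mem.2 h)
    refine ⟨f * ∏ q ∈ hfin.toFinset.erase 𝔭, g q, ?_, fun y hy => ?_, fun p hpN y y' hy hy' => ?_⟩
    · rw [Ideal.IsPrime.mul_mem_iff_mem_or_mem ‹_›, Ideal.IsPrime.prod_mem_iff]
      rintro (h | ⟨q, hq, h⟩)
      · exact hfp h
      · exact hgp q hq h
    all_goals
      have hle : ∀ y : PrimeSpectrum A, f * ∏ q ∈ hfin.toFinset.erase 𝔭, g q ∉ y.asIdeal →
          𝔭 ≤ y.asIdeal := fun y hy => by
        obtain ⟨q, hq, hqy⟩ := Ideal.exists_minimalPrimes_le (bot_le : (⊥ : Ideal A) ≤ y.asIdeal)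
        by_contra hne
        have hmem : q ∈ hfin.toFinset.erase 𝔭 :=
          Finset.mem_erase.2 ⟨fun e => hne (e ▸ hqy), hfin.mem_toFinset.2 hq⟩
        exact hy (Ideal.mul_mem_left _ _ (Ideal.prod_mem _ hmem (hqy (hgq q hmem))))
    · exact hle y hy
    let f' : B := Ideal.Quotient.mk 𝔭 f
    haveI : IsDomain (Localization.Away f') :=
      IsLocalization.isDomain_of_le_nonZeroDivisors (Localization.Away f') (powers_le_nonZeroDivisors_of_noZeroDivisors hf)
    let PF := CohIII.bcCx (algebraMap B (Localization.Away f')) PB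
    have hPF : ∀ i, Module.Flat (Localization.Away f') (PF.X i) := fun i => by
      haveI := hPB i
      exact bcCx_flat_X PB _
    haveI : Module.Flat (Localization.Away f') (HH PF p) :=
      flat_of_preserves PF hPF p (hfN p hpN).1 (hfN p hpN).2
    haveI : Module.Finite (Localization.Away f') (HH PF p) := by
      haveI := hfpB p
      have hfl : (algebraMap B (Localization.Away f')).Flat :=
        RingHom.flat_algebraMap_iff.2 inferInstance
      letI := (algebraMap B (Localization.Away f')).toAlgebra
      exact Module.Finite.equiv (hhBaseChange PB (Localization.Away f') _ hfl p)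
    haveI := Module.finitePresentation_of_finite (Localization.Away f') (HH PF p)
    have hval : ∀ y : PrimeSpectrum A, f * ∏ q ∈ hfin.toFinset.erase 𝔭, g q ∉ y.asIdeal →
        ∃ z : PrimeSpectrum (Localization.Away f'),
          CohIII.dRank P p y = Module.rankAtStalk (R := Localization.Away f') (HH PF p) z := fun y hy => by
      have hy1 : y ∈ Set.range (PrimeSpectrum.comap (algebraMap A B)) := by
        rw [range_comap_of_surjective _ _ (show Function.Surjective (algebraMap A B) from Ideal.Quotient.mk_surjective),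
          PrimeSpectrum.mem_zeroLocus, SetLike.coe_subset_coe]
        show RingHom.ker (Ideal.Quotient.mk 𝔭) ≤ _
        rw [Ideal.mk_ker]
        exact hle y hy
      obtain ⟨y₁, rfl⟩ := hy1
      have hy2 : y₁ ∈ Set.range (PrimeSpectrum.comap (algebraMap B (Localization.Away f'))) := by
        rw [PrimeSpectrum.localization_away_comap_range (Localization.Away f') f']
        exact fun h => hy (Ideal.mul_mem_right _ _ h)
      obtain ⟨z, rfl⟩ := hy2
      refine ⟨z, ?_⟩
      rw [← dRank_comap P (down_prev p) (down_next p), ← dRank_comap PB (down_prev p) (down_next p),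
        dRank_eq_fibDim PF hPF p (hfN p hpN).2, fibDim_eq_rankAtStalk]
    obtain ⟨z, hz⟩ := hval y hy
    obtain ⟨z', hz'⟩ := hval y' hy'
    rw [hz, hz']
    exact (Module.isLocallyConstant_rankAtStalk (R := Localization.Away f')
      (M := HH PF p)).apply_eq_of_isPreconnected isPreconnected_univ trivial trivial
  choose h h0 hle hconst using key
  refine ⟨⋃ 𝔭, ↑(PrimeSpectrum.basicOpen (h 𝔭)), isOpen_iUnion fun _ => (PrimeSpectrum.basicOpen _).isOpen,
    fun y => ?_, fun p hp => (IsLocallyConstant.iff_exists_open _).2 fun x => ?_⟩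
  · obtain ⟨q, hq, hqy⟩ := Ideal.exists_minimalPrimes_le (bot_le : (⊥ : Ideal A) ≤ y.asIdeal)
    exact ((PrimeSpectrum.le_iff_specializes ⟨q, hq.1.1⟩ y).1 hqy).mem_closed isClosed_closure
      (subset_closure (Set.mem_iUnion.2 ⟨⟨q, hq⟩, h0 ⟨q, hq⟩⟩))
  · obtain ⟨𝔭, hx⟩ := Set.mem_iUnion.1 x.2
    exact ⟨_, (PrimeSpectrum.basicOpen (h 𝔭)).isOpen.preimage continuous_subtype_val, hx,
      fun y hy => hconst 𝔭 p hp y.1 x.1 hy hx⟩

end Les

end Groth.Agent.H06FlatCx
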