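import Mathlib.Algebra.Homology.ShortComplex.HomologicalComplex
import Mathlib.Algebra.Homology.ShortComplex.ModuleCat
import Mathlib.Algebra.Category.ModuleCat.Abelian
import Mathlib.Algebra.Category.ModuleCat.EpiMono

/-! Homology classes of cycles in a complex of modules. -/

set_option autoImplicit false
set_option linter.unusedSectionVars false

namespace Groth.Agent.H06FlatCx

open CategoryTheory

universe u v

variable {A : Type u} [Ring A] {ι : Type*} {c : ComplexShape ι}
variable {K K' : HomologicalComplex (ModuleCat.{v} A) c} {j k : ι}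

theorem iCycles_injective (K : HomologicalComplex (ModuleCat.{v} A) c) (j : ι) :
    Function.Injective (K.iCycles j).hom :=
  (ModuleCat.mono_iff_injective _).1 inferInstance

/-- Cycles are the kernel of the differential. -/
theorem exists_cycles (K : HomologicalComplex (ModuleCat.{v} A) c) {j k : ι} (hjk : c.next j = k)
    (x : K.X j) (hx : (K.d j k).hom x = 0) : ∃ z, (K.iCycles j).hom z = x := by
  subst hjk
  let S : ShortComplex (ModuleCat.{v} A) :=
    ShortComplex.mk (K.iCycles j) (K.d j (c.next j)) (K.iCycles_d j _)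
  have hS : S.Exact := ShortComplex.exact_of_f_is_kernel _ (K.cyclesIsKernel j _ rfl)
  exact (ShortComplex.moduleCat_exact_iff S).1 hS x hx

/-- The inclusion of cycles, as an equivalence with the kernel of the differential. -/
noncomputable def cyclesEquiv (K : HomologicalComplex (ModuleCat.{v} A) c) {j k : ι}
    (hjk : c.next j = k) : K.cycles j ≃ₗ[A] LinearMap.ker (K.d j k).hom :=
  LinearEquiv.ofBijective
    ((K.iCycles j).hom.codRestrict _ fun z => by
      rw [LinearMap.mem_ker, ← LinearMap.comp_apply, ← ModuleCat.hom_comp, K.iCycles_d]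
      rfl)
    ⟨fun a b h => iCycles_injective K j (congrArg Subtype.val h),
      fun x => (exists_cycles K hjk x.1 x.2).imp fun _ h => Subtype.ext h⟩

theorem cyclesEquiv_coe (K : HomologicalComplex (ModuleCat.{v} A) c) {j k : ι} (hjk : c.next j = k)
    (z : K.cycles j) : (cyclesEquiv K hjk z : K.X j) = (K.iCycles j).hom z := rfl

theorem iCycles_cyclesEquiv_symm (K : HomologicalComplex (ModuleCat.{v} A) c) {j k : ι}
    (hjk : c.next j = k) (x : LinearMap.ker (K.d j k).hom) :
    (K.iCycles j).hom ((cyclesEquiv K hjk).symm x) = x := by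
  conv_rhs => rw [← (cyclesEquiv K hjk).apply_symm_apply x]
  rfl

/-- The homology class of a cycle. -/
noncomputable def cls (K : HomologicalComplex (ModuleCat.{v} A) c) {j k : ι} (hjk : c.next j = k) :
    LinearMap.ker (K.d j k).hom →ₗ[A] K.homology j :=
  (K.homologyπ j).hom ∘ₗ (cyclesEquiv K hjk).symm.toLinearMap

theorem cls_surjective (K : HomologicalComplex (ModuleCat.{v} A) c) {j k : ι} (hjk : c.next j = k) :
    Function.Surjective (cls K hjk) :=
  ((ModuleCat.epi_iff_surjective (K.homologyπ j)).1 inferInstance).comp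
    (cyclesEquiv K hjk).symm.surjective

theorem cls_eq_zero_iff (K : HomologicalComplex (ModuleCat.{v} A) c) {i j k : ι}
    (hij : c.prev j = i) (hjk : c.next j = k) (x : LinearMap.ker (K.d j k).hom) :
    cls K hjk x = 0 ↔ (x : K.X j) ∈ LinearMap.range (K.d i j).hom := by
  let S : ShortComplex (ModuleCat.{v} A) :=
    ShortComplex.mk (K.toCycles i j) (K.homologyπ j) (K.toCycles_comp_homologyπ i j)
  have hS : S.Exact := ShortComplex.exact_of_g_is_cokernel _ (K.homologyIsCokernel i j hij)
  have hi : ∀ w, (K.iCycles j).hom ((K.toCycles i j).hom w) = (K.d i j).hom w := fun w => by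
    rw [← LinearMap.comp_apply, ← ModuleCat.hom_comp, K.toCycles_i]
  constructor
  · intro h
    obtain ⟨w, hw⟩ := (ShortComplex.moduleCat_exact_iff S).1 hS _ h
    refine ⟨w, ?_⟩
    rw [← hi w, show (K.toCycles i j).hom w = (cyclesEquiv K hjk).symm x from hw,
      iCycles_cyclesEquiv_symm]
  · rintro ⟨w, hw⟩
    have : (cyclesEquiv K hjk).symm x = (K.toCycles i j).hom w :=
      iCycles_injective K j (by rw [hi, iCycles_cyclesEquiv_symm, hw])
    change (K.homologyπ j).hom ((cyclesEquiv K hjk).symm x) = 0
    rw [this, ← LinearMap.comp_apply, ← ModuleCat.hom_comp, K.toCycles_comp_homologyπ]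
    rfl

theorem cls_eq_iff (K : HomologicalComplex (ModuleCat.{v} A) c) {i j k : ι}
    (hij : c.prev j = i) (hjk : c.next j = k) (x y : LinearMap.ker (K.d j k).hom) :
    cls K hjk x = cls K hjk y ↔ (x : K.X j) - y ∈ LinearMap.range (K.d i j).hom := by
  rw [← sub_eq_zero, ← map_sub, cls_eq_zero_iff K hij hjk]
  rfl

theorem map_mem_ker (φ : K ⟶ K') {j k : ι} {x : K.X j} (hx : x ∈ LinearMap.ker (K.d j k).hom) :
    (φ.f j).hom x ∈ LinearMap.ker (K'.d j k).hom := by
  rw [LinearMap.mem_ker] at hx ⊢
  rw [← LinearMap.comp_apply, ← ModuleCat.hom_comp, φ.comm, ModuleCat.hom_comp,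
    LinearMap.comp_apply, hx, map_zero]

theorem homologyMap_cls (φ : K ⟶ K') {j k : ι} (hjk : c.next j = k)
    (x : LinearMap.ker (K.d j k).hom) :
    (HomologicalComplex.homologyMap φ j).hom (cls K hjk x) =
      cls K' hjk ⟨(φ.f j).hom x, map_mem_ker φ x.2⟩ := by
  have h : (cyclesEquiv K' hjk).symm ⟨(φ.f j).hom x, map_mem_ker φ x.2⟩ =
      (HomologicalComplex.cyclesMap φ j).hom ((cyclesEquiv K hjk).symm x) := by
    refine iCycles_injective K' j ?_
    rw [iCycles_cyclesEquiv_symm, ← LinearMap.comp_apply, ← ModuleCat.hom_comp,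
      HomologicalComplex.cyclesMap_i, ModuleCat.hom_comp, LinearMap.comp_apply,
      iCycles_cyclesEquiv_symm]
  change _ = (K'.homologyπ j).hom ((cyclesEquiv K' hjk).symm _)
  rw [h]
  change ((K.homologyπ j) ≫ HomologicalComplex.homologyMap φ j).hom _ = _
  rw [HomologicalComplex.homologyπ_naturality]
  rfl

/-- Homology as cycles modulo boundaries. -/
noncomputable def homologyEquiv (K : HomologicalComplex (ModuleCat.{v} A) c) {i j k : ι}
    (hij : c.prev j = i) (hjk : c.next j = k) :
    (LinearMap.ker (K.d j k).hom ⧸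
      (LinearMap.range (K.d i j).hom).comap (LinearMap.ker (K.d j k).hom).subtype) ≃ₗ[A]
      K.homology j :=
  (Submodule.quotEquivOfEq _ _ (Submodule.ext fun x => (cls_eq_zero_iff K hij hjk x).symm)).trans
    ((cls K hjk).quotKerEquivOfSurjective (cls_surjective K hjk))

theorem homologyEquiv_mk (K : HomologicalComplex (ModuleCat.{v} A) c) {i j k : ι}
    (hij : c.prev j = i) (hjk : c.next j = k) (x : LinearMap.ker (K.d j k).hom) :
    homologyEquiv K hij hjk (Submodule.Quotient.mk x) = cls K hjk x := rfl

end Groth.Agent.H06FlatCx
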