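import Mathlib.RingTheory.Flat.Basic
import Mathlib.RingTheory.Flat.Stability
import Mathlib.RingTheory.Flat.Tensor
import Mathlib.LinearAlgebra.TensorProduct.RightExactness
import Mathlib.LinearAlgebra.TensorProduct.Quotient
import Mathlib.RingTheory.FiniteLength
import Mathlib.RingTheory.HopkinsLevitzki

/-! Homology of a three-term complex tensored with a module, with flat terms: when is it
right exact or left exact in the module. -/

set_option autoImplicit false
set_option linter.unusedSectionVars false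

namespace Groth.Agent.H06FlatCx

open scoped TensorProduct

universe u

variable {A : Type u} [CommRing A]
variable {L P Q : Type u} [AddCommGroup L] [Module A L] [AddCommGroup P] [Module A P]
  [AddCommGroup Q] [Module A Q]
variable (f : L →ₗ[A] P) (g : P →ₗ[A] Q)

/-- `M ↦ H(M)` preserves surjections, stated on cycles. -/
def EpiLift : Prop :=
  ∀ (M N : Type u) [AddCommGroup M] [Module A M] [AddCommGroup N] [Module A N] (φ : M →ₗ[A] N),
    Function.Surjective φ → ∀ z ∈ LinearMap.ker (g.rTensor N),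
      ∃ w ∈ LinearMap.ker (g.rTensor M), φ.lTensor P w = z

/-- `M ↦ H(M)` preserves injections, stated on cycles. -/
def MonoBd : Prop :=
  ∀ (M N : Type u) [AddCommGroup M] [Module A M] [AddCommGroup N] [Module A N] (φ : M →ₗ[A] N),
    Function.Injective φ → ∀ z ∈ LinearMap.ker (g.rTensor M),
      φ.lTensor P z ∈ LinearMap.range (f.rTensor N) → z ∈ LinearMap.range (f.rTensor M)

/-- `H(M)` is spanned by classes of `z ⊗ m`. -/
def SpannedAt (M : Type u) [AddCommGroup M] [Module A M] : Prop :=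
  LinearMap.ker (g.rTensor M) ≤
    LinearMap.range ((LinearMap.ker g).subtype.rTensor M) ⊔ LinearMap.range (f.rTensor M)

section Generic

variable {M N K : Type u} [AddCommGroup M] [Module A M] [AddCommGroup N] [Module A N]
  [AddCommGroup K] [Module A K]

theorem lTensor_rTensor_apply (φ : M →ₗ[A] N) (x : P ⊗[A] M) :
    φ.lTensor Q (g.rTensor M x) = g.rTensor N (φ.lTensor P x) := by
  rw [← LinearMap.comp_apply, ← LinearMap.comp_apply, LinearMap.lTensor_comp_rTensor,
    LinearMap.rTensor_comp_lTensor]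

theorem mkQ_range_rTensor (M : Type u) [AddCommGroup M] [Module A M] (x : P ⊗[A] M) :
    (LinearMap.range f).mkQ.rTensor M x = 0 ↔ x ∈ LinearMap.range (f.rTensor M) :=
  rTensor_exact M (LinearMap.exact_map_mkQ_range f) (Submodule.mkQ_surjective _) x

theorem rTensor_comp_zero {f : L →ₗ[A] P} {g : P →ₗ[A] Q} (h : g ∘ₗ f = 0) (M : Type u)
    [AddCommGroup M] [Module A M] (x : L ⊗[A] M) : g.rTensor M (f.rTensor M x) = 0 := by
  rw [← LinearMap.rTensor_comp_apply, h, LinearMap.rTensor_zero, LinearMap.zero_apply]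

/-- Boundaries detected after an injection when the cokernel is flat. -/
theorem mem_range_of_flat [Module.Flat A (P ⧸ LinearMap.range f)] (φ : M →ₗ[A] N)
    (hφ : Function.Injective φ) {z : P ⊗[A] M}
    (hz : φ.lTensor P z ∈ LinearMap.range (f.rTensor N)) : z ∈ LinearMap.range (f.rTensor M) := by
  rw [← mkQ_range_rTensor] at hz ⊢
  rw [← lTensor_rTensor_apply] at hz
  exact Module.Flat.lTensor_preserves_injective_linearMap φ hφ (by rw [hz, map_zero])

/-- Every module is a quotient of a flat one. -/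
theorem exists_flat_presentation (M : Type u) [AddCommGroup M] [Module A M] :
    ∃ (F : Type u) (_ : AddCommGroup F) (_ : Module A F) (_ : Module.Flat A F) (ψ : F →ₗ[A] M),
      Function.Surjective ψ :=
  ⟨M →₀ A, inferInstance, inferInstance, inferInstance, Finsupp.linearCombination A id,
    Finsupp.linearCombination_surjective A Function.surjective_id⟩

/-- A single lifting gives injectivity on the cokernel. -/
theorem lTensor_coker_injective [Module.Flat A Q] (φ : K →ₗ[A] M) (ψ : M →ₗ[A] N)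
    (hφ : Function.Injective φ) (hψ : Function.Surjective ψ) (hex : Function.Exact φ ψ)
    (hlift : ∀ z ∈ LinearMap.ker (g.rTensor N),
      ∃ w ∈ LinearMap.ker (g.rTensor M), ψ.lTensor P w = z) :
    Function.Injective (φ.lTensor (Q ⧸ LinearMap.range g)) := by
  rw [← LinearMap.ker_eq_bot, eq_bot_iff]
  intro x hx
  obtain ⟨k, rfl⟩ := LinearMap.rTensor_surjective K (Submodule.mkQ_surjective _) x
  rw [LinearMap.mem_ker, lTensor_rTensor_apply, mkQ_range_rTensor] at hx
  obtain ⟨w, hw⟩ := hx
  have hz : g.rTensor N (ψ.lTensor P w) = 0 := by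
    rw [← lTensor_rTensor_apply, hw, ← LinearMap.lTensor_comp_apply, hex.linearMap_comp_eq_zero,
      LinearMap.lTensor_zero, LinearMap.zero_apply]
  obtain ⟨w', hw', hw''⟩ := hlift _ hz
  have : ψ.lTensor P (w - w') = 0 := by rw [map_sub, hw'', sub_self]
  obtain ⟨y, hy⟩ := (lTensor_exact P hex hψ _).1 this
  rw [Submodule.mem_bot, mkQ_range_rTensor]
  refine ⟨y, Module.Flat.lTensor_preserves_injective_linearMap φ hφ ?_⟩
  rw [lTensor_rTensor_apply, hy, map_sub, LinearMap.mem_ker.1 hw', sub_zero, hw]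

theorem lift_of_spannedAt {f : L →ₗ[A] P} {g : P →ₗ[A] Q} (h : g ∘ₗ f = 0) (ψ : M →ₗ[A] N)
    (hψ : Function.Surjective ψ) (hN : SpannedAt f g N) :
    ∀ z ∈ LinearMap.ker (g.rTensor N), ∃ w ∈ LinearMap.ker (g.rTensor M), ψ.lTensor P w = z := by
  intro z hz
  obtain ⟨_, ⟨a, rfl⟩, _, ⟨b, rfl⟩, rfl⟩ := Submodule.mem_sup.1 (hN hz)
  obtain ⟨a', rfl⟩ := LinearMap.lTensor_surjective (LinearMap.ker g) hψ a
  obtain ⟨b', rfl⟩ := LinearMap.lTensor_surjective L hψ b
  refine ⟨(LinearMap.ker g).subtype.rTensor M a' + f.rTensor M b', ?_, ?_⟩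
  · rw [LinearMap.mem_ker, map_add, rTensor_comp_zero h, add_zero,
      ← LinearMap.rTensor_comp_apply, LinearMap.comp_ker_subtype, LinearMap.rTensor_zero,
      LinearMap.zero_apply]
  · rw [map_add, lTensor_rTensor_apply, lTensor_rTensor_apply]

end Generic

/-- Left exactness is flatness of the cokernel. -/
theorem monoBd_iff_flat [Module.Flat A Q] {f : L →ₗ[A] P} {g : P →ₗ[A] Q} (h : g ∘ₗ f = 0) :
    MonoBd f g ↔ Module.Flat A (P ⧸ LinearMap.range f) := by
  refine ⟨fun H => ?_, fun H M N _ _ _ _ φ hφ z _ hzr => mem_range_of_flat f φ hφ hzr⟩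
  rw [Module.Flat.iff_lTensor_preserves_injective_linearMap]
  intro M N _ _ _ _ φ hφ
  rw [← LinearMap.ker_eq_bot, eq_bot_iff]
  intro x hx
  obtain ⟨z, rfl⟩ := LinearMap.rTensor_surjective M (Submodule.mkQ_surjective _) x
  rw [LinearMap.mem_ker, lTensor_rTensor_apply, mkQ_range_rTensor] at hx
  rw [Submodule.mem_bot, mkQ_range_rTensor]
  refine H M N φ hφ z (Module.Flat.lTensor_preserves_injective_linearMap φ hφ ?_) hx
  rw [map_zero, lTensor_rTensor_apply]
  obtain ⟨w, hw⟩ := hx
  rw [← hw, rTensor_comp_zero h]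

/-- Right exactness is flatness of the next cokernel. -/
theorem epiLift_iff_flat [Module.Flat A Q] :
    EpiLift g ↔ Module.Flat A (Q ⧸ LinearMap.range g) := by
  constructor
  · intro H
    rw [Module.Flat.iff_lTensor_preserves_injective_linearMap]
    intro K M _ _ _ _ φ hφ
    exact lTensor_coker_injective g φ (LinearMap.range φ).mkQ hφ (Submodule.mkQ_surjective _)
      (LinearMap.exact_map_mkQ_range φ) (H M _ _ (Submodule.mkQ_surjective _))
  · intro H M N _ _ _ _ φ hφ z hz
    obtain ⟨z', rfl⟩ := LinearMap.lTensor_surjective P hφ z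
    have hk : φ.lTensor Q (g.rTensor M z') = 0 := by
      rw [lTensor_rTensor_apply]; exact hz
    obtain ⟨k, hk'⟩ := (lTensor_exact Q φ.exact_subtype_ker_map hφ _).1 hk
    have h0 : (LinearMap.range g).mkQ.rTensor (LinearMap.ker φ) k = 0 := by
      refine Module.Flat.lTensor_preserves_injective_linearMap (LinearMap.ker φ).subtype
        Subtype.val_injective ?_
      rw [map_zero, lTensor_rTensor_apply, hk', mkQ_range_rTensor]
      exact ⟨z', rfl⟩
    obtain ⟨y, rfl⟩ := (mkQ_range_rTensor g _ k).1 h0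
    refine ⟨z' - (LinearMap.ker φ).subtype.lTensor P y, ?_, ?_⟩
    · rw [LinearMap.mem_ker, map_sub, ← lTensor_rTensor_apply, hk', sub_self]
    · rw [map_sub, ← LinearMap.lTensor_comp_apply, LinearMap.comp_ker_subtype,
        LinearMap.lTensor_zero, LinearMap.zero_apply, sub_zero]

theorem ker_rTensor_eq_of_epiLift (hE : EpiLift g) (M : Type u) [AddCommGroup M] [Module A M] :
    LinearMap.ker (g.rTensor M) = LinearMap.range ((LinearMap.ker g).subtype.rTensor M) := by
  refine le_antisymm (fun z hz => ?_) ?_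
  · obtain ⟨F, _, _, _, ψ, hψ⟩ := exists_flat_presentation (A := A) M
    obtain ⟨w, hw, rfl⟩ := hE _ _ ψ hψ z hz
    obtain ⟨a, rfl⟩ := (Module.Flat.rTensor_exact F g.exact_subtype_ker_map w).1 hw
    exact ⟨ψ.lTensor _ a, (lTensor_rTensor_apply _ ψ a).symm⟩
  · rintro _ ⟨a, rfl⟩
    rw [LinearMap.mem_ker, ← LinearMap.rTensor_comp_apply, LinearMap.comp_ker_subtype,
      LinearMap.rTensor_zero, LinearMap.zero_apply]

theorem spannedAt_of_epiLift (hE : EpiLift g) (M : Type u) [AddCommGroup M] [Module A M] :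
    SpannedAt f g M :=
  (ker_rTensor_eq_of_epiLift g hE M).le.trans le_sup_left

theorem epiLift_of_spannedAt {f : L →ₗ[A] P} {g : P →ₗ[A] Q} (h : g ∘ₗ f = 0)
    (H : ∀ (N : Type u) [AddCommGroup N] [Module A N], SpannedAt f g N) : EpiLift g :=
  fun _ N _ _ _ _ ψ hψ => lift_of_spannedAt h ψ hψ (H N)

theorem ker_subtype_rTensor_injective [Module.Flat A Q] (hE : EpiLift g) (M : Type u)
    [AddCommGroup M] [Module A M] :
    Function.Injective ((LinearMap.ker g).subtype.rTensor M) := by
  rw [← LinearMap.ker_eq_bot, eq_bot_iff]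
  intro x hx
  obtain ⟨F, _, _, _, ψ, hψ⟩ := exists_flat_presentation (A := A) M
  obtain ⟨y, rfl⟩ := LinearMap.lTensor_surjective _ hψ x
  rw [LinearMap.mem_ker, ← lTensor_rTensor_apply] at hx
  obtain ⟨p, hp⟩ :=
    (lTensor_exact P ψ.exact_subtype_ker_map hψ _).1 hx
  have hp' : p ∈ LinearMap.ker (g.rTensor (LinearMap.ker ψ)) := by
    refine Module.Flat.lTensor_preserves_injective_linearMap (LinearMap.ker ψ).subtype
      Subtype.val_injective ?_
    rw [map_zero, lTensor_rTensor_apply, hp, ← LinearMap.rTensor_comp_apply,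
      LinearMap.comp_ker_subtype, LinearMap.rTensor_zero, LinearMap.zero_apply]
  rw [ker_rTensor_eq_of_epiLift g hE] at hp'
  obtain ⟨w, rfl⟩ := hp'
  rw [lTensor_rTensor_apply] at hp
  have := Module.Flat.rTensor_preserves_injective_linearMap (M := F)
    (LinearMap.ker g).subtype Subtype.val_injective hp
  rw [Submodule.mem_bot, ← this, ← LinearMap.lTensor_comp_apply, LinearMap.comp_ker_subtype,
    LinearMap.lTensor_zero, LinearMap.zero_apply]

section Homology

variable {f g}

/-- The boundary map into cycles. -/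
def toKer (h : g ∘ₗ f = 0) : L →ₗ[A] LinearMap.ker g :=
  f.codRestrict _ fun x => LinearMap.congr_fun h x

theorem subtype_comp_toKer (h : g ∘ₗ f = 0) : (LinearMap.ker g).subtype ∘ₗ toKer h = f :=
  LinearMap.subtype_comp_codRestrict _ _ _

theorem subtype_toKer_rTensor (h : g ∘ₗ f = 0) {M : Type u} [AddCommGroup M] [Module A M]
    (x : L ⊗[A] M) :
    (LinearMap.ker g).subtype.rTensor M ((toKer h).rTensor M x) = f.rTensor M x := by
  rw [← LinearMap.rTensor_comp_apply, subtype_comp_toKer]

theorem mem_range_toKer_iff [Module.Flat A Q] (h : g ∘ₗ f = 0) (hE : EpiLift g) {M : Type u}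
    [AddCommGroup M] [Module A M] (a : LinearMap.ker g ⊗[A] M) :
    (LinearMap.ker g).subtype.rTensor M a ∈ LinearMap.range (f.rTensor M) ↔
      a ∈ LinearMap.range ((toKer h).rTensor M) := by
  constructor
  · rintro ⟨x, hx⟩
    exact ⟨x, ker_subtype_rTensor_injective g hE M (by rw [subtype_toKer_rTensor, hx])⟩
  · rintro ⟨x, rfl⟩
    exact ⟨x, (subtype_toKer_rTensor h x).symm⟩

/-- Under right exactness, left exactness is flatness of the homology. -/
theorem monoBd_iff_flat_homology [Module.Flat A Q] (h : g ∘ₗ f = 0) (hE : EpiLift g) :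
    MonoBd f g ↔ Module.Flat A (LinearMap.ker g ⧸ LinearMap.range (toKer h)) := by
  constructor
  · intro H
    rw [Module.Flat.iff_lTensor_preserves_injective_linearMap]
    intro M N _ _ _ _ φ hφ
    rw [← LinearMap.ker_eq_bot, eq_bot_iff]
    intro x hx
    obtain ⟨a, rfl⟩ := LinearMap.rTensor_surjective M (Submodule.mkQ_surjective _) x
    rw [LinearMap.mem_ker, lTensor_rTensor_apply, mkQ_range_rTensor,
      ← mem_range_toKer_iff h hE, ← lTensor_rTensor_apply] at hx
    rw [Submodule.mem_bot, mkQ_range_rTensor, ← mem_range_toKer_iff h hE]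
    refine H M N φ hφ _ ?_ hx
    rw [ker_rTensor_eq_of_epiLift g hE]
    exact ⟨a, rfl⟩
  · intro H M N _ _ _ _ φ hφ z hz hzr
    rw [ker_rTensor_eq_of_epiLift g hE] at hz
    obtain ⟨a, rfl⟩ := hz
    rw [lTensor_rTensor_apply, mem_range_toKer_iff h hE] at hzr
    rw [mem_range_toKer_iff h hE]
    exact mem_range_of_flat _ φ hφ hzr

/-- `SpannedAt` passes to extensions. -/
theorem spannedAt_of_exact [Module.Flat A Q] (h : g ∘ₗ f = 0) {M' M M'' : Type u}
    [AddCommGroup M'] [Module A M'] [AddCommGroup M] [Module A M] [AddCommGroup M''] [Module A M'']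
    (φ : M' →ₗ[A] M) (ψ : M →ₗ[A] M'') (hφ : Function.Injective φ) (hψ : Function.Surjective ψ)
    (hex : Function.Exact φ ψ) (h1 : SpannedAt f g M') (h2 : SpannedAt f g M'') :
    SpannedAt f g M := by
  intro z hz
  have hψz : ψ.lTensor P z ∈ LinearMap.ker (g.rTensor M'') := by
    rw [LinearMap.mem_ker, ← lTensor_rTensor_apply, LinearMap.mem_ker.1 hz, map_zero]
  obtain ⟨_, ⟨a, rfl⟩, _, ⟨b, rfl⟩, hab⟩ := Submodule.mem_sup.1 (h2 hψz)
  obtain ⟨a', rfl⟩ := LinearMap.lTensor_surjective (LinearMap.ker g) hψ a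
  obtain ⟨b', rfl⟩ := LinearMap.lTensor_surjective L hψ b
  set e := (LinearMap.ker g).subtype.rTensor M a' + f.rTensor M b' with he
  have hege : g.rTensor M e = 0 := by
    rw [he, map_add, rTensor_comp_zero h, add_zero, ← LinearMap.rTensor_comp_apply,
      LinearMap.comp_ker_subtype, LinearMap.rTensor_zero, LinearMap.zero_apply]
  have h0 : ψ.lTensor P (z - e) = 0 := by
    rw [map_sub, he, map_add, lTensor_rTensor_apply, lTensor_rTensor_apply, hab, sub_self]
  obtain ⟨p, hp⟩ := (lTensor_exact P hex hψ _).1 h0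
  have hp' : g.rTensor M' p = 0 := by
    refine Module.Flat.lTensor_preserves_injective_linearMap φ hφ ?_
    rw [map_zero, lTensor_rTensor_apply, hp, map_sub, LinearMap.mem_ker.1 hz, hege, sub_zero]
  obtain ⟨_, ⟨c, rfl⟩, _, ⟨d, rfl⟩, rfl⟩ := Submodule.mem_sup.1 (h1 hp')
  refine Submodule.mem_sup.2 ⟨_, ⟨a' + φ.lTensor _ c, rfl⟩, _, ⟨b' + φ.lTensor _ d, rfl⟩, ?_⟩
  rw [map_add, lTensor_rTensor_apply, lTensor_rTensor_apply] at hp
  rw [map_add, map_add, ← eq_sub_iff_add_eq.1 hp.symm.symm]
  · rw [he]; abel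

theorem spannedAt_of_equiv {M N : Type u} [AddCommGroup M] [Module A M] [AddCommGroup N]
    [Module A N] (e : M ≃ₗ[A] N) (hM : SpannedAt f g M) : SpannedAt f g N := by
  intro z hz
  have h1 : e.symm.toLinearMap.lTensor P z ∈ LinearMap.ker (g.rTensor M) := by
    rw [LinearMap.mem_ker, ← lTensor_rTensor_apply, LinearMap.mem_ker.1 hz, map_zero]
  obtain ⟨_, ⟨a, rfl⟩, _, ⟨b, rfl⟩, hab⟩ := Submodule.mem_sup.1 (hM h1)
  refine Submodule.mem_sup.2
    ⟨_, ⟨e.toLinearMap.lTensor _ a, rfl⟩, _, ⟨e.toLinearMap.lTensor _ b, rfl⟩, ?_⟩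
  rw [← lTensor_rTensor_apply, ← lTensor_rTensor_apply, ← map_add, hab,
    ← LinearMap.lTensor_comp_apply]
  simp

theorem spannedAt_of_subsingleton (M : Type u) [AddCommGroup M] [Module A M] [Subsingleton M] :
    SpannedAt f g M := by
  intro z _
  rw [Subsingleton.elim z 0]; exact zero_mem _

/-- Right exactness from spanning at simple modules, over an Artinian ring. -/
theorem epiLift_of_spannedAt_simple [IsArtinianRing A] [Module.Flat A Q] (h : g ∘ₗ f = 0)
    (hS : ∀ (S : Type u) [AddCommGroup S] [Module A S] [IsSimpleModule A S], SpannedAt f g S) :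
    EpiLift g := by
  have hfl : ∀ (M : Type u) [AddCommGroup M] [Module A M], IsFiniteLength A M →
      SpannedAt f g M := by
    intro M _ _ hM
    induction hM with
    | of_subsingleton => exact spannedAt_of_subsingleton _
    | @of_simple_quotient M _ _ N _ _ ih =>
      exact spannedAt_of_exact h N.subtype N.mkQ Subtype.val_injective
        (Submodule.mkQ_surjective _) (LinearMap.exact_subtype_mkQ N) ih (hS _)
  rw [epiLift_iff_flat, Module.Flat.iff_lTensor_injective']
  intro J
  refine lTensor_coker_injective g J.subtype (Submodule.mkQ J) Subtype.val_injective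
    (Submodule.mkQ_surjective _) (LinearMap.exact_subtype_mkQ J)
    (lift_of_spannedAt h _ (Submodule.mkQ_surjective _) (hfl _ ?_))
  rw [isFiniteLength_iff_isNoetherian_isArtinian]
  exact ⟨inferInstance, inferInstance⟩

end Homology

end Groth.Agent.H06FlatCx
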