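import Groth.Prelude.Def_ega3
import Groth.Agent.H06FlatCx.HomologyClass
import Groth.Agent.H06FlatCx.ThreeTerm

/-! The functors `M ↦ H_j(P ⊗ M)` in terms of the three-term complex around `j`. -/

set_option autoImplicit false
set_option linter.unusedSectionVars false

namespace Groth.Agent.H06FlatCx

open CategoryTheory CategoryTheory.Limits MonoidalCategory
open scoped TensorProduct

universe u

variable {A : Type u} [CommRing A] {ι : Type} {c : ComplexShape ι}
variable (P : HomologicalComplex (ModuleCat.{u} A) c) {i j k : ι}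

theorem tensorObj_d_hom (M : ModuleCat.{u} A) (j k : ι) :
    ((CohIII.tensorObj P M).d j k).hom = (P.d j k).hom.rTensor M := rfl

theorem tensorMap_f_hom {M N : ModuleCat.{u} A} (φ : M ⟶ N) (j : ι) :
    ((CohIII.tensorMap P φ).f j).hom = φ.hom.lTensor (P.X j) := rfl

theorem d_comp_d (i j k : ι) : (P.d j k).hom ∘ₗ (P.d i j).hom = 0 := by
  rw [← ModuleCat.hom_comp, P.d_comp_d]; rfl

/-- The class of a cycle of `P ⊗ M`. -/
noncomputable def tcls (hjk : c.next j = k) (M : ModuleCat.{u} A) :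
    LinearMap.ker ((P.d j k).hom.rTensor M) →ₗ[A] (CohIII.TFun P j).obj M :=
  cls (CohIII.tensorObj P M) hjk

theorem tcls_surjective (hjk : c.next j = k) (M : ModuleCat.{u} A) :
    Function.Surjective (tcls P hjk M) :=
  cls_surjective (CohIII.tensorObj P M) hjk

theorem tcls_eq_zero_iff (hij : c.prev j = i) (hjk : c.next j = k) (M : ModuleCat.{u} A)
    (x : LinearMap.ker ((P.d j k).hom.rTensor M)) :
    tcls P hjk M x = 0 ↔ (x : P.X j ⊗[A] M) ∈ LinearMap.range ((P.d i j).hom.rTensor M) :=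
  cls_eq_zero_iff (CohIII.tensorObj P M) hij hjk x

theorem map_tcls (hjk : c.next j = k) {M N : ModuleCat.{u} A} (φ : M ⟶ N)
    (x : LinearMap.ker ((P.d j k).hom.rTensor M)) :
    ((CohIII.TFun P j).map φ).hom (tcls P hjk M x) =
      tcls P hjk N ⟨φ.hom.lTensor (P.X j) x, by
        rw [LinearMap.mem_ker, ← lTensor_rTensor_apply, LinearMap.mem_ker.1 x.2, map_zero]⟩ :=
  homologyMap_cls (CohIII.tensorMap P φ) hjk x

/-- `H_j(P ⊗ M)` as cycles modulo boundaries. -/
noncomputable def tEquiv (hij : c.prev j = i) (hjk : c.next j = k) (M : ModuleCat.{u} A) :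
    (LinearMap.ker ((P.d j k).hom.rTensor M) ⧸
      (LinearMap.range ((P.d i j).hom.rTensor M)).comap
        (LinearMap.ker ((P.d j k).hom.rTensor M)).subtype) ≃ₗ[A] (CohIII.TFun P j).obj M :=
  homologyEquiv (CohIII.tensorObj P M) hij hjk

theorem preservesEpi_iff_epiLift (hij : c.prev j = i) (hjk : c.next j = k) :
    (CohIII.TFun P j).PreservesEpimorphisms ↔ EpiLift (P.d j k).hom := by
  constructor
  · intro H M N _ _ _ _ φ hφ z hz
    haveI : Epi (ModuleCat.ofHom φ) := (ModuleCat.epi_iff_surjective _).2 hφ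
    obtain ⟨t, ht⟩ := (ModuleCat.epi_iff_surjective _).1
      (H.preserves (ModuleCat.ofHom φ)) (tcls P hjk (ModuleCat.of A N) ⟨z, hz⟩)
    obtain ⟨w, rfl⟩ := tcls_surjective P hjk _ t
    rw [map_tcls, ← sub_eq_zero, ← map_sub, tcls_eq_zero_iff P hij] at ht
    obtain ⟨b, hb⟩ := ht
    obtain ⟨b', hb'⟩ := LinearMap.lTensor_surjective (P.X i) hφ b
    refine ⟨(w : P.X j ⊗[A] M) - (P.d i j).hom.rTensor M b', ?_, ?_⟩
    · rw [LinearMap.mem_ker, map_sub, LinearMap.mem_ker.1 w.2,
        rTensor_comp_zero (d_comp_d P i j k), sub_zero]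
    · rw [map_sub, lTensor_rTensor_apply, hb', hb]
      exact sub_sub_cancel _ _
  · intro H
    refine ⟨fun {M N} φ _ => (ModuleCat.epi_iff_surjective _).2 fun t => ?_⟩
    obtain ⟨⟨z, hz⟩, rfl⟩ := tcls_surjective P hjk _ t
    obtain ⟨w, hw, hwz⟩ := H M N φ.hom ((ModuleCat.epi_iff_surjective φ).1 inferInstance) z hz
    exact ⟨tcls P hjk M ⟨w, hw⟩, by rw [map_tcls]; exact congrArg _ (Subtype.ext hwz)⟩

theorem preservesMono_iff_monoBd (hij : c.prev j = i) (hjk : c.next j = k) :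
    (CohIII.TFun P j).PreservesMonomorphisms ↔ MonoBd (P.d i j).hom (P.d j k).hom := by
  constructor
  · intro H M N _ _ _ _ φ hφ z hz hzr
    haveI : Mono (ModuleCat.ofHom φ) := (ModuleCat.mono_iff_injective _).2 hφ
    refine (tcls_eq_zero_iff P hij hjk (ModuleCat.of A M) ⟨z, hz⟩).1
      ((ModuleCat.mono_iff_injective _).1 (H.preserves (ModuleCat.ofHom φ)) ?_)
    rw [map_zero, map_tcls, tcls_eq_zero_iff P hij]
    exact hzr
  · intro H
    refine ⟨fun {M N} φ _ => (ModuleCat.mono_iff_injective _).2 ?_⟩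
    refine (injective_iff_map_eq_zero ((CohIII.TFun P j).map φ).hom).2 fun t ht => ?_
    obtain ⟨⟨z, hz⟩, rfl⟩ := tcls_surjective P hjk _ t
    rw [map_tcls, tcls_eq_zero_iff P hij] at ht
    rw [tcls_eq_zero_iff P hij]
    exact H M N φ.hom ((ModuleCat.mono_iff_injective φ).1 inferInstance) z hz ht

theorem preservesEpi_iff_flat (hij : c.prev j = i) (hjk : c.next j = k)
    [Module.Flat A (P.X k)] :
    (CohIII.TFun P j).PreservesEpimorphisms ↔
      Module.Flat A (P.X k ⧸ LinearMap.range (P.d j k).hom) :=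
  (preservesEpi_iff_epiLift P hij hjk).trans (epiLift_iff_flat _)

theorem preservesMono_iff_flat (hij : c.prev j = i) (hjk : c.next j = k)
    [Module.Flat A (P.X k)] :
    (CohIII.TFun P j).PreservesMonomorphisms ↔
      Module.Flat A (P.X j ⧸ LinearMap.range (P.d i j).hom) :=
  (preservesMono_iff_monoBd P hij hjk).trans (monoBd_iff_flat (d_comp_d P i j k))

/-- Surjectivity onto the value at `N` from the value at a flat module. -/
theorem map_surjective_iff_spannedAt (hij : c.prev j = i) (hjk : c.next j = k)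
    {F N : ModuleCat.{u} A} [Module.Flat A F] (φ : F ⟶ N) (hφ : Function.Surjective φ.hom) :
    Function.Surjective ((CohIII.TFun P j).map φ).hom ↔
      SpannedAt (P.d i j).hom (P.d j k).hom N := by
  constructor
  · intro H z hz
    obtain ⟨t, ht⟩ := H (tcls P hjk N ⟨z, hz⟩)
    obtain ⟨w, rfl⟩ := tcls_surjective P hjk _ t
    rw [map_tcls, ← sub_eq_zero, ← map_sub, tcls_eq_zero_iff P hij] at ht
    obtain ⟨b, hb⟩ := ht
    obtain ⟨a, ha⟩ := (Module.Flat.rTensor_exact F (P.d j k).hom.exact_subtype_ker_map _).1 w.2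
    refine Submodule.mem_sup.2 ⟨_, ⟨φ.hom.lTensor _ a, rfl⟩, _, ⟨-b, rfl⟩, ?_⟩
    rw [map_neg, hb, ← lTensor_rTensor_apply, ha, ← sub_eq_add_neg]
    exact sub_sub_cancel _ _
  · intro H t
    obtain ⟨⟨z, hz⟩, rfl⟩ := tcls_surjective P hjk _ t
    obtain ⟨w, hw, hwz⟩ := lift_of_spannedAt (d_comp_d P i j k) φ.hom hφ H z hz
    exact ⟨tcls P hjk F ⟨w, hw⟩, by rw [map_tcls]; exact congrArg _ (Subtype.ext hwz)⟩

end Groth.Agent.H06FlatCx
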